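import Mathlib

/-!
Jacobian criterion for a quotient of a formally smooth algebra localized at a prime: formal smoothness
is witnessed by derivations with invertible minor.
-/

set_option autoImplicit false
universe u
open IsLocalRing TensorProduct KaehlerDifferential

namespace Groth.Agent.JacobianLib

variable {R B : Type u} [CommRing R] [CommRing B] [Algebra R B]

/-- Derivations with a minor invertible at `q` exist when the differentials are independent at `q`. -/
theorem exists_derivations [Algebra.FormallySmooth R B] (q : Ideal B) [q.IsPrime] {m : ℕ} (f : Fin m → B)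
    (hind : ∀ c : Fin m → B, (∑ i, c i • D R B (f i)) ∈ q • (⊤ : Submodule B Ω[B⁄R]) → ∀ i, c i ∈ q) :
    ∃ D' : Fin m → Derivation R B B, Matrix.det (Matrix.of fun i j => D' j (f i)) ∉ q := by
  classical
  let κ := q.ResidueField
  let vec : (Ω[B⁄R] →ₗ[B] B) → (Fin m → κ) := fun φ i => algebraMap B κ (φ (D R B (f i)))
  have hspan : Submodule.span κ (Set.range vec) = ⊤ := by
    by_contra hne
    obtain ⟨ψ, hψ0, hψ⟩ := Submodule.exists_le_ker_of_lt_top _ (lt_top_iff_ne_top.2 hne)
    obtain ⟨c, rfl⟩ : ∃ c : Fin m → κ, ψ = ∑ i, c i • (LinearMap.proj i) := ⟨fun i => ψ (Pi.single i 1), by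
      ext i; simp [Pi.single_apply]⟩
    haveI : IsFractionRing (B ⧸ q) κ := inferInstance
    obtain ⟨⟨s, hs⟩, hcs⟩ := IsLocalization.exist_integer_multiples_of_finite (nonZeroDivisors (B ⧸ q)) c
    choose d hd using hcs
    choose e he using fun i => Ideal.Quotient.mk_surjective (d i)
    have hde : ∀ i, algebraMap B κ (e i) = algebraMap (B ⧸ q) κ s * c i := fun i => by
      have h' : algebraMap (B ⧸ q) κ (d i) = s • c i := hd i
      rw [IsScalarTower.algebraMap_apply B (B ⧸ q) κ, Ideal.Quotient.algebraMap_eq, he, h', Algebra.smul_def]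
    obtain ⟨sec, hsec⟩ := (Module.projective_def (R := B) (P := Ω[B⁄R])).1 inferInstance
    let w := ∑ i, e i • D R B (f i)
    have hw : w ∈ q • (⊤ : Submodule B Ω[B⁄R]) := by
      have hcoord : ∀ x, sec w x ∈ q := by
        intro x
        have h1 := hψ (Submodule.subset_span ⟨(Finsupp.lapply x).comp sec, rfl⟩)
        rw [LinearMap.mem_ker, LinearMap.sum_apply] at h1
        rw [← Ideal.algebraMap_residueField_eq_zero, show sec w x = ((Finsupp.lapply x).comp sec) w from rfl]
        simp only [w, map_sum, map_smul, smul_eq_mul, map_mul, hde]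
        change ∑ i, c i * algebraMap B κ (((Finsupp.lapply x).comp sec) (D R B (f i))) = 0 at h1
        show ∑ i, algebraMap B κ (e i) * algebraMap B κ (((Finsupp.lapply x).comp sec) (D R B (f i))) = 0
        simp_rw [hde, mul_assoc]
        rw [← Finset.mul_sum, h1, mul_zero]
      rw [← hsec w, Finsupp.linearCombination_apply]
      exact Submodule.sum_mem _ fun x _ => Submodule.smul_mem_smul (hcoord x) trivial
    have hc0 : ∀ i, c i = 0 := fun i => by
      have h1 := Ideal.algebraMap_residueField_eq_zero.2 (hind e hw i)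
      rw [hde, mul_eq_zero] at h1
      refine h1.resolve_left ?_
      exact IsFractionRing.to_map_ne_zero_of_mem_nonZeroDivisors hs
    exact hψ0 (by simp [hc0])
  obtain ⟨b, hbs, hbspan, hbli⟩ := exists_linearIndependent κ (Set.range vec)
  rw [hspan] at hbspan
  let bas : Module.Basis b κ (Fin m → κ) := Module.Basis.mk hbli (by simp [hbspan])
  haveI : Finite b := Module.Finite.finite_basis bas
  let e : b ≃ Fin m := bas.indexEquiv (Pi.basisFun κ (Fin m))
  choose φ hφ using fun x : b => hbs x.2
  refine ⟨fun j => (φ (e.symm j)).compDer (D R B), ?_⟩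
  let bas' := bas.reindex e
  rw [← Ideal.algebraMap_residueField_eq_zero]
  rw [RingHom.map_det]
  have hmat : (algebraMap B κ).mapMatrix (Matrix.of fun i j => (φ (e.symm j)).compDer (D R B) (f i)) =
      (Pi.basisFun κ (Fin m)).toMatrix bas' := by
    ext i j
    rw [Module.Basis.toMatrix_apply, Pi.basisFun_repr, Module.Basis.reindex_apply, Module.Basis.mk_apply]
    exact congrFun (hφ (e.symm j)) i
  rw [hmat]
  exact ((Matrix.isUnit_iff_isUnit_det _).1 (by
    haveI := Module.Basis.invertibleToMatrix (Pi.basisFun κ (Fin m)) bas'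
    exact isUnit_of_invertible _)).ne_zero

variable {P S : Type u} [CommRing P] [IsLocalRing P] [IsNoetherianRing P] [Algebra R P] [CommRing S] [Algebra R S]
  [Algebra P S] [IsScalarTower R P S]

/-- A Jacobian minor gives a splitting. -/
theorem formallySmooth_of_minor [Algebra.FormallySmooth R P] (hsurj : Function.Surjective (algebraMap P S))
    {m : ℕ} (f : Fin m → P) (hf : RingHom.ker (algebraMap P S) = Ideal.span (Set.range f))
    (Λ : Fin m → (Ω[P⁄R] →ₗ[P] P)) (hdet : IsUnit (Matrix.det (Matrix.of fun i j => Λ j (D R P (f i))))) :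
    Algebra.FormallySmooth R S := by
  classical
  set I := RingHom.ker (algebraMap P S) with hI
  let M : Matrix (Fin m) (Fin m) P := Matrix.of fun i j => Λ j (D R P (f i))
  have hfm : ∀ i, f i ∈ I := fun i => hf ▸ Ideal.subset_span ⟨i, rfl⟩
  let cl : Fin m → I.Cotangent := fun i => I.toCotangent ⟨f i, hfm i⟩
  let g : Fin m → I.Cotangent := fun j => ∑ k, M⁻¹ j k • cl k
  let Ψ : Ω[P⁄R] →ₗ[P] I.Cotangent := ∑ j, (Λ j).smulRight (g j)
  have hΨ : ∀ i, Ψ (D R P (f i)) = cl i := by
    intro i
    simp only [Ψ, LinearMap.sum_apply, LinearMap.smulRight_apply, g, Finset.smul_sum, smul_smul]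
    rw [Finset.sum_comm]
    simp only [← Finset.sum_smul]
    have h1 : ∀ k, ∑ j, Λ j (D R P (f i)) * M⁻¹ j k = (1 : Matrix (Fin m) (Fin m) P) i k := fun k => by
      rw [← Matrix.mul_nonsing_inv M hdet, Matrix.mul_apply]; rfl
    simp [h1, Matrix.one_apply]
  have hann : ∀ a ∈ I, ∀ z : I.Cotangent, a • z = 0 := by
    intro a ha z
    obtain ⟨z, rfl⟩ := I.toCotangent_surjective z
    rw [← map_smul, Ideal.toCotangent_eq_zero, pow_two]
    exact Ideal.mul_mem_mul ha z.2
  have hΨI : ∀ x (hx : x ∈ I), Ψ (D R P x) = I.toCotangent ⟨x, hx⟩ := by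
    intro x hx
    have hx' : x ∈ Ideal.span (Set.range f) := hf ▸ hx
    induction hx' using Submodule.span_induction with
    | mem y hy => obtain ⟨i, rfl⟩ := hy; exact hΨ i
    | zero =>
      rw [map_zero, map_zero, show (⟨0, hx⟩ : I) = 0 from rfl, map_zero]
    | add a b ha hb iha ihb =>
      rw [map_add, map_add, iha (hf ▸ ha), ihb (hf ▸ hb)]
      rw [← map_add]; rfl
    | smul r a ha iha =>
      have ha' : a ∈ I := hf ▸ ha
      show Ψ (D R P (r * a)) = _
      rw [Derivation.leibniz, map_add, map_smul, map_smul, iha ha', hann a ha', add_zero, ← map_smul]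
      rfl
  let θ : (P ⧸ I) ≃ₐ[P] S := Ideal.quotientKerAlgEquivOfSurjective (f := Algebra.ofId P S) hsurj
  have hker : I • (⊤ : Submodule P Ω[P⁄R]) ≤ LinearMap.ker Ψ :=
    Submodule.smul_le.2 fun a ha z _ => by rw [LinearMap.mem_ker, map_smul, hann a ha]
  let l : S ⊗[P] Ω[P⁄R] →ₗ[P] I.Cotangent :=
    (Submodule.liftQ _ Ψ hker) ∘ₗ (quotTensorEquivQuotSMul Ω[P⁄R] I).toLinearMap ∘ₗ
      (TensorProduct.congr θ.toLinearEquiv.symm (LinearEquiv.refl P Ω[P⁄R])).toLinearMap
  refine (Algebra.FormallySmooth.iff_split_injection hsurj).2 ⟨l, ?_⟩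
  refine LinearMap.ext fun z => ?_
  obtain ⟨⟨x, hx⟩, rfl⟩ := I.toCotangent_surjective z
  rw [LinearMap.comp_apply, kerCotangentToTensor_toCotangent, LinearMap.id_apply]
  simp only [l, LinearMap.comp_apply, LinearEquiv.coe_coe, TensorProduct.congr_tmul, LinearEquiv.refl_apply]
  rw [show θ.toLinearEquiv.symm 1 = 1 from map_one θ.symm, quotTensorEquivQuotSMul_mk_one_tmul,
    Submodule.liftQ_apply]
  exact hΨI x hx

/-- Formal smoothness makes differentials of minimal generators independent. -/
theorem mem_of_formallySmooth [Algebra.FormallySmooth R P] [Algebra.FormallySmooth R S]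
    (hsurj : Function.Surjective (algebraMap P S))
    {m : ℕ} (f : Fin m → P) (hfm : ∀ i, f i ∈ RingHom.ker (algebraMap P S)) (c : Fin m → P)
    (hc : (∑ i, c i • D R P (f i)) ∈ maximalIdeal P • (⊤ : Submodule P Ω[P⁄R])) :
    ∑ i, c i * f i ∈ maximalIdeal P * RingHom.ker (algebraMap P S) ⊔ RingHom.ker (algebraMap P S) ^ 2 := by
  set I := RingHom.ker (algebraMap P S) with hI
  obtain ⟨l, hl⟩ := (Algebra.FormallySmooth.iff_split_injection (R := R) hsurj).1 inferInstance
  let Φ : Ω[P⁄R] →ₗ[P] I.Cotangent := l ∘ₗ TensorProduct.mk P S Ω[P⁄R] 1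
  have hΦ : ∀ x (hx : x ∈ I), Φ (D R P x) = I.toCotangent ⟨x, hx⟩ := fun x hx => by
    have := LinearMap.congr_fun hl (I.toCotangent ⟨x, hx⟩)
    rwa [LinearMap.comp_apply, kerCotangentToTensor_toCotangent] at this
  have h1 : Φ (∑ i, c i • D R P (f i)) ∈ maximalIdeal P • (⊤ : Submodule P I.Cotangent) := by
    have := Submodule.mem_map_of_mem (f := Φ) hc
    rw [Submodule.map_smul''] at this
    exact Submodule.smul_mono le_rfl le_top this
  have h2 : Φ (∑ i, c i • D R P (f i)) = I.toCotangent (∑ i, c i • (⟨f i, hfm i⟩ : I)) := by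
    simp only [map_sum, map_smul]
    exact Finset.sum_congr rfl fun i _ => by rw [hΦ]
  rw [h2] at h1
  have h3 : (⊤ : Submodule P I.Cotangent) = Submodule.map I.toCotangent ⊤ := by
    rw [Submodule.map_top, LinearMap.range_eq_top.2 I.toCotangent_surjective]
  rw [h3, ← Submodule.map_smul''] at h1
  obtain ⟨y, hy, hyz⟩ := Submodule.mem_map.1 h1
  have hy' : (y : P) ∈ maximalIdeal P * I := by
    have h4 := Submodule.mem_map_of_mem (f := I.subtype) hy
    rw [Submodule.map_smul'', Submodule.map_top, Submodule.range_subtype] at h4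
    exact h4
  have h5 := (Ideal.toCotangent_eq I).1 hyz
  have hcoe : ((∑ i, c i • (⟨f i, hfm i⟩ : I) : I) : P) = ∑ i, c i * f i := by simp
  rw [hcoe] at h5
  have h6 := sub_mem (Submodule.mem_sup_left (T := I ^ 2) hy') (Submodule.mem_sup_right (S := maximalIdeal P * I) h5)
  simpa using h6

variable [IsNoetherianRing B]

/-- If the conormal map is injective modulo `q`, there is a Jacobian minor. -/
theorem exists_minor_of_indep [Algebra.FormallySmooth R B] (q J : Ideal B) [q.IsPrime] (hJq : J ≤ q)
    (H : ∀ x ∈ J, D R B x ∈ q • (⊤ : Submodule B Ω[B⁄R]) → algebraMap B (Localization.AtPrime q) x ∈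
      maximalIdeal (Localization.AtPrime q) * J.map (algebraMap B (Localization.AtPrime q))) :
    ∃ (m : ℕ) (f : Fin m → B) (D' : Fin m → Derivation R B B),
      (∀ i, f i ∈ J) ∧
      J.map (algebraMap B (Localization.AtPrime q)) =
        Ideal.span (Set.range fun i => algebraMap B (Localization.AtPrime q) (f i)) ∧
      Matrix.det (Matrix.of fun i j => D' j (f i)) ∉ q := by
  classical
  let P := Localization.AtPrime q
  haveI : IsNoetherianRing P := IsLocalization.isNoetherianRing q.primeCompl P inferInstance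
  obtain ⟨n, f₀, hf₀⟩ := Submodule.fg_iff_exists_fin_generating_family.1 (IsNoetherian.noetherian J)
  have hex : ∃ m, ∃ f : Fin m → B, (∀ i, f i ∈ J) ∧
      J.map (algebraMap B P) = Ideal.span (Set.range fun i => algebraMap B P (f i)) := by
    refine ⟨n, f₀, fun i => hf₀ ▸ Submodule.subset_span ⟨i, rfl⟩, ?_⟩
    conv_lhs => rw [← hf₀]
    rw [show Submodule.span B (Set.range f₀) = Ideal.span (Set.range f₀) from rfl, Ideal.map_span, ← Set.range_comp]
    rfl
  obtain ⟨m, hmin, f, hfJ, hfspan⟩ : ∃ m, (∀ m' < m, ¬ ∃ f : Fin m' → B, (∀ i, f i ∈ J) ∧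
      J.map (algebraMap B P) = Ideal.span (Set.range fun i => algebraMap B P (f i))) ∧
      ∃ f : Fin m → B, (∀ i, f i ∈ J) ∧
        J.map (algebraMap B P) = Ideal.span (Set.range fun i => algebraMap B P (f i)) :=
    ⟨Nat.find hex, fun _ h => Nat.find_min hex h, Nat.find_spec hex⟩
  refine ⟨m, f, ?_⟩
  obtain ⟨D', hD'⟩ := exists_derivations q f fun c hc i => by
    by_contra hci
    have h2 : (∑ i, algebraMap B P (c i) * algebraMap B P (f i)) ∈ maximalIdeal P * J.map (algebraMap B P) := by
      have hx : (∑ i, c i * f i) ∈ J := sum_mem fun i _ => Ideal.mul_mem_left _ _ (hfJ i)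
      have hD : D R B (∑ i, c i * f i) ∈ q • (⊤ : Submodule B Ω[B⁄R]) := by
        simp only [map_sum, Derivation.leibniz, Finset.sum_add_distrib]
        exact add_mem hc (sum_mem fun i _ => Submodule.smul_mem_smul (hJq (hfJ i)) Submodule.mem_top)
      simpa only [map_sum, map_mul] using H _ hx hD
    -- drop the i-th generator
    obtain ⟨m', hm'⟩ : ∃ m', m = m' + 1 := ⟨m - 1, by have := i.2; omega⟩
    let emb : Fin m' → Fin m := fun j => Fin.cast hm'.symm ((Fin.cast hm' i).succAbove j)
    let N : Ideal P := Ideal.span (Set.range fun j => algebraMap B P (f (emb j)))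
    have hne : ∀ k, k ≠ i → algebraMap B P (f k) ∈ N := fun k hk => by
      obtain ⟨j, hj⟩ := Fin.exists_succAbove_eq (x := Fin.cast hm' k) (y := Fin.cast hm' i) (by
        simpa [Fin.ext_iff] using fun h => hk (Fin.ext h))
      exact Ideal.subset_span ⟨j, by simp [emb, hj]⟩
    have hunit : IsUnit (algebraMap B P (c i)) := IsLocalization.map_units P (⟨c i, hci⟩ : q.primeCompl)
    have hfi : algebraMap B P (f i) ∈ N ⊔ maximalIdeal P * J.map (algebraMap B P) := by
      refine (Ideal.unit_mul_mem_iff_mem _ hunit).1 ?_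
      have h3 : algebraMap B P (c i) * algebraMap B P (f i) =
          (∑ k, algebraMap B P (c k) * algebraMap B P (f k)) -
            ∑ k ∈ Finset.univ.erase i, algebraMap B P (c k) * algebraMap B P (f k) := by
        rw [← Finset.add_sum_erase _ _ (Finset.mem_univ i)]; ring
      rw [h3]
      exact sub_mem (Submodule.mem_sup_right h2) (Submodule.mem_sup_left (sum_mem fun k hk =>
        Ideal.mul_mem_left _ _ (hne k (Finset.ne_of_mem_erase hk))))
    have hle : J.map (algebraMap B P) ≤ N := by
      refine Submodule.le_of_le_smul_of_le_jacobson_bot (I := maximalIdeal P) ?_ ?_ ?_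
      · exact IsNoetherian.noetherian _
      · rw [IsLocalRing.jacobson_eq_maximalIdeal ⊥ bot_ne_top]
      · conv_lhs => rw [hfspan]
        rw [Ideal.span_le]
        rintro _ ⟨k, rfl⟩
        by_cases hk : k = i
        · subst hk; exact hfi
        · exact Submodule.mem_sup_left (hne k hk)
    refine hmin m' (by omega) ⟨fun j => f (emb j), fun j => hfJ _, le_antisymm hle ?_⟩
    rw [Ideal.span_le]
    rintro _ ⟨j, rfl⟩
    exact Ideal.mem_map_of_mem _ (hfJ _)
  exact ⟨D', hfJ, hfspan, hD'⟩

/-- Main criterion for `S = (B/J)_q`, presented by `P = B_q`. -/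
theorem iff_minor [Algebra.FormallySmooth R B] (q J : Ideal B) [q.IsPrime] (hJq : J ≤ q)
    {S : Type u} [CommRing S] [Algebra R S] [Algebra (Localization.AtPrime q) S]
    [IsScalarTower R (Localization.AtPrime q) S]
    (hsurj : Function.Surjective (algebraMap (Localization.AtPrime q) S))
    (hker : RingHom.ker (algebraMap (Localization.AtPrime q) S) = J.map (algebraMap B (Localization.AtPrime q))) :
    Algebra.FormallySmooth R S ↔
      ∃ (m : ℕ) (f : Fin m → B) (D' : Fin m → Derivation R B B),
        (∀ i, f i ∈ J) ∧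
        J.map (algebraMap B (Localization.AtPrime q)) =
          Ideal.span (Set.range fun i => algebraMap B (Localization.AtPrime q) (f i)) ∧
        Matrix.det (Matrix.of fun i j => D' j (f i)) ∉ q := by
  classical
  let P := Localization.AtPrime q
  haveI : IsNoetherianRing P := IsLocalization.isNoetherianRing q.primeCompl P inferInstance
  haveI : Algebra.FormallySmooth R P := inferInstance
  haveI : Algebra.FormallyEtale B P := Algebra.FormallyEtale.of_isLocalization q.primeCompl
  constructor
  · intro hS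
    refine exists_minor_of_indep q J hJq fun x hx hD => ?_
    have hxP : algebraMap B P x ∈ RingHom.ker (algebraMap P S) := hker ▸ Ideal.mem_map_of_mem _ hx
    have hJn : RingHom.ker (algebraMap P S) ≤ maximalIdeal P := by
      rw [hker]
      exact Ideal.map_le_iff_le_comap.2 fun a ha => (IsLocalization.AtPrime.to_map_mem_maximal_iff P q a).2 (hJq ha)
    have hc' : (∑ _i : Fin 1, (1 : P) • D R P (algebraMap B P x)) ∈ maximalIdeal P • (⊤ : Submodule P Ω[P⁄R]) := by
      have hmap : ∀ w ∈ q • (⊤ : Submodule B Ω[B⁄R]),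
          KaehlerDifferential.map R R B P w ∈ maximalIdeal P • (⊤ : Submodule P Ω[P⁄R]) := fun w hw => by
        refine Submodule.smul_induction_on hw (fun a ha z _ => ?_) (fun a b ha hb => by rw [map_add]; exact add_mem ha hb)
        rw [map_smul, ← algebraMap_smul P a]
        exact Submodule.smul_mem_smul ((IsLocalization.AtPrime.to_map_mem_maximal_iff P q a).2 ha) Submodule.mem_top
      simpa only [Fin.sum_univ_one, one_smul, KaehlerDifferential.map_D] using hmap _ hD
    have h2 := mem_of_formallySmooth hsurj (fun _ : Fin 1 => algebraMap B P x) (fun _ => hxP) (fun _ => 1) hc'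
    rw [pow_two, sup_eq_left.2 (Ideal.mul_mono_left hJn), hker] at h2
    simpa only [Fin.sum_univ_one, one_mul] using h2
  · rintro ⟨m, f, D', hfJ, hfspan, hdet⟩
    let Λ : Fin m → (Ω[P⁄R] →ₗ[P] P) := fun j =>
      (KaehlerDifferential.isBaseChange_of_formallyEtale R B P).lift
        ((Algebra.linearMap B P) ∘ₗ (D' j).liftKaehlerDifferential)
    have hΛ : ∀ i j, Λ j (D R P (algebraMap B P (f i))) = algebraMap B P (D' j (f i)) := fun i j => by
      rw [← KaehlerDifferential.map_D R R B P (f i)]
      refine (IsBaseChange.lift_eq _ _ _).trans ?_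
      rw [LinearMap.comp_apply, Derivation.liftKaehlerDifferential_comp_D]
      rfl
    refine formallySmooth_of_minor hsurj (fun i => algebraMap B P (f i)) (hker.trans hfspan) Λ ?_
    have : (Matrix.of fun i j => Λ j (D R P (algebraMap B P (f i)))) =
        (algebraMap B P).mapMatrix (Matrix.of fun i j => D' j (f i)) := by
      ext i j; exact hΛ i j
    rw [this, ← RingHom.map_det]
    exact IsLocalization.map_units P (⟨_, hdet⟩ : q.primeCompl)

end Groth.Agent.JacobianLib
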