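import Mathlib
import Groth.Prelude.Def_CAlgX
import Groth.Agent.JacobianLib.Basic

/-!
Formal smoothness of a quotient via retractions of the conormal map, written with `B`-linear maps
`Ω[B⁄R] → J/J²`; locality in `Spec`; the adic criterion at a prime.
-/

set_option autoImplicit false
universe u
open IsLocalRing TensorProduct KaehlerDifferential

namespace Groth.Agent.JacobianLib

variable {R B : Type u} [CommRing R] [CommRing B] [Algebra R B]

theorem smul_cotangent_eq_zero {J : Ideal B} {a : B} (ha : a ∈ J) (z : J.Cotangent) : a • z = 0 := by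
  obtain ⟨z, rfl⟩ := J.toCotangent_surjective z
  rw [← map_smul, Ideal.toCotangent_eq_zero, pow_two]
  exact Ideal.mul_mem_mul ha z.2

/-- Formal smoothness from a retraction of the conormal map. -/
theorem formallySmooth_of_retraction [Algebra.FormallySmooth R B] {S : Type u} [CommRing S] [Algebra R S]
    [Algebra B S] [IsScalarTower R B S] (hsurj : Function.Surjective (algebraMap B S))
    (Ψ : Ω[B⁄R] →ₗ[B] (RingHom.ker (algebraMap B S)).Cotangent)
    (hΨ : ∀ x (hx : x ∈ RingHom.ker (algebraMap B S)),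
      Ψ (D R B x) = (RingHom.ker (algebraMap B S)).toCotangent ⟨x, hx⟩) :
    Algebra.FormallySmooth R S := by
  let I := RingHom.ker (algebraMap B S)
  let θ : (B ⧸ I) ≃ₐ[B] S := Ideal.quotientKerAlgEquivOfSurjective (f := Algebra.ofId B S) hsurj
  have hker : I • (⊤ : Submodule B Ω[B⁄R]) ≤ LinearMap.ker Ψ :=
    Submodule.smul_le.2 fun a ha z _ => by rw [LinearMap.mem_ker, map_smul, smul_cotangent_eq_zero ha]
  let l : S ⊗[B] Ω[B⁄R] →ₗ[B] I.Cotangent :=
    (Submodule.liftQ _ Ψ hker) ∘ₗ (quotTensorEquivQuotSMul Ω[B⁄R] I).toLinearMap ∘ₗ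
      (TensorProduct.congr θ.toLinearEquiv.symm (LinearEquiv.refl B Ω[B⁄R])).toLinearMap
  refine (Algebra.FormallySmooth.iff_split_injection hsurj).2 ⟨l, ?_⟩
  refine LinearMap.ext fun z => ?_
  obtain ⟨⟨x, hx⟩, rfl⟩ := I.toCotangent_surjective z
  rw [LinearMap.comp_apply, kerCotangentToTensor_toCotangent, LinearMap.id_apply]
  simp only [l, LinearMap.comp_apply, LinearEquiv.coe_coe, TensorProduct.congr_tmul, LinearEquiv.refl_apply]
  rw [show θ.toLinearEquiv.symm 1 = 1 from map_one θ.symm, quotTensorEquivQuotSMul_mk_one_tmul,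
    Submodule.liftQ_apply]
  exact hΨ x hx

theorem exists_retraction [Algebra.FormallySmooth R B] {S : Type u} [CommRing S] [Algebra R S]
    [Algebra B S] [IsScalarTower R B S] [Algebra.FormallySmooth R S] (hsurj : Function.Surjective (algebraMap B S)) :
    ∃ Ψ : Ω[B⁄R] →ₗ[B] (RingHom.ker (algebraMap B S)).Cotangent,
      ∀ x (hx : x ∈ RingHom.ker (algebraMap B S)),
        Ψ (D R B x) = (RingHom.ker (algebraMap B S)).toCotangent ⟨x, hx⟩ := by
  obtain ⟨l, hl⟩ := (Algebra.FormallySmooth.iff_split_injection (R := R) hsurj).1 inferInstance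
  refine ⟨l ∘ₗ TensorProduct.mk B S Ω[B⁄R] 1, fun x hx => ?_⟩
  have := LinearMap.congr_fun hl ((RingHom.ker (algebraMap B S)).toCotangent ⟨x, hx⟩)
  rwa [LinearMap.comp_apply, kerCotangentToTensor_toCotangent] at this

variable (R) in
/-- The elements `s` with a `B`-linear map `Ω[B⁄R] → J/J²` retracting the conormal map up to `s`. -/
def retractIdeal (J : Ideal B) : Ideal B where
  carrier := {s | ∃ Φ : Ω[B⁄R] →ₗ[B] J.Cotangent, ∀ x (hx : x ∈ J), Φ (D R B x) = s • J.toCotangent ⟨x, hx⟩}
  zero_mem' := ⟨0, by simp⟩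
  add_mem' := by
    rintro s t ⟨Φ, hΦ⟩ ⟨Φ', hΦ'⟩
    exact ⟨Φ + Φ', fun x hx => by rw [LinearMap.add_apply, hΦ x hx, hΦ' x hx, add_smul]⟩
  smul_mem' := by
    rintro a s ⟨Φ, hΦ⟩
    exact ⟨a • Φ, fun x hx => by rw [LinearMap.smul_apply, hΦ x hx, smul_smul]; rfl⟩

theorem le_retractIdeal (J : Ideal B) : J ≤ retractIdeal R J := fun s hs =>
  ⟨0, fun x hx => by rw [smul_cotangent_eq_zero hs]; rfl⟩

theorem one_mem_retractIdeal_iff [Algebra.FormallySmooth R B] {S : Type u} [CommRing S] [Algebra R S]
    [Algebra B S] [IsScalarTower R B S] (hsurj : Function.Surjective (algebraMap B S)) :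
    (1 : B) ∈ retractIdeal R (RingHom.ker (algebraMap B S)) ↔ Algebra.FormallySmooth R S := by
  constructor
  · rintro ⟨Φ, hΦ⟩
    exact formallySmooth_of_retraction hsurj Φ fun x hx => by rw [hΦ x hx, one_smul]
  · intro _
    obtain ⟨Ψ, hΨ⟩ := exists_retraction (R := R) hsurj
    exact ⟨Ψ, fun x hx => by rw [hΨ x hx, one_smul]⟩

/-- The localization map on cotangent spaces. -/
noncomputable def cotLoc {P : Ideal B} [P.IsPrime] (J : Ideal B) (J' : Ideal (Localization.AtPrime P))
    (hJ' : J.map (algebraMap B (Localization.AtPrime P)) = J') : J.Cotangent →ₗ[B] J'.Cotangent :=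
  Submodule.liftQ _
    (((J'.toCotangent.restrictScalars B)) ∘ₗ
      LinearMap.codRestrict (J'.restrictScalars B) ((Algebra.linearMap B (Localization.AtPrime P)) ∘ₗ J.subtype)
        (fun x => hJ' ▸ Ideal.mem_map_of_mem _ x.2))
    (Submodule.smul_le.2 fun a ha x _ => by
      rw [LinearMap.mem_ker, LinearMap.comp_apply, LinearMap.restrictScalars_apply]
      exact (Ideal.toCotangent_eq_zero J' _).2 (by
        show algebraMap B (Localization.AtPrime P) (a * (x : B)) ∈ J' ^ 2
        rw [map_mul, pow_two]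
        exact Ideal.mul_mem_mul (hJ' ▸ Ideal.mem_map_of_mem _ ha) (hJ' ▸ Ideal.mem_map_of_mem _ x.2)))

theorem cotLoc_apply {P : Ideal B} [P.IsPrime] (J : Ideal B) (J' : Ideal (Localization.AtPrime P))
    (hJ' : J.map (algebraMap B (Localization.AtPrime P)) = J') (x : B) (hx : x ∈ J) :
    cotLoc J J' hJ' (J.toCotangent ⟨x, hx⟩) =
      J'.toCotangent ⟨algebraMap B _ x, hJ' ▸ Ideal.mem_map_of_mem _ hx⟩ := rfl

theorem cotLoc_surj {P : Ideal B} [P.IsPrime] (J : Ideal B) (J' : Ideal (Localization.AtPrime P))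
    (hJ' : J.map (algebraMap B (Localization.AtPrime P)) = J') (z : J'.Cotangent) :
    ∃ (s : B) (w : J.Cotangent), s ∉ P ∧ s • z = cotLoc J J' hJ' w := by
  obtain ⟨⟨x, hx⟩, rfl⟩ := J'.toCotangent_surjective z
  obtain ⟨⟨⟨a, ha⟩, s⟩, has⟩ := (IsLocalization.mem_map_algebraMap_iff P.primeCompl _).1 (hJ' ▸ hx)
  refine ⟨s, J.toCotangent ⟨a, ha⟩, s.2, ?_⟩
  rw [cotLoc_apply, ← algebraMap_smul (Localization.AtPrime P) (s : B), ← map_smul]
  congr 1
  apply Subtype.ext
  show algebraMap B _ (s : B) * x = algebraMap B _ a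
  rw [mul_comm]
  exact has

theorem cotLoc_eq_zero {P : Ideal B} [P.IsPrime] (J : Ideal B) (J' : Ideal (Localization.AtPrime P))
    (hJ' : J.map (algebraMap B (Localization.AtPrime P)) = J') (w : J.Cotangent)
    (hw : cotLoc J J' hJ' w = 0) : ∃ s : B, s ∉ P ∧ s • w = 0 := by
  obtain ⟨⟨x, hx⟩, rfl⟩ := J.toCotangent_surjective w
  rw [cotLoc_apply, Ideal.toCotangent_eq_zero] at hw
  subst hJ'
  rw [← Ideal.map_pow, IsLocalization.algebraMap_mem_map_algebraMap_iff P.primeCompl] at hw
  obtain ⟨s, hs, hsx⟩ := hw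
  refine ⟨s, hs, ?_⟩
  rw [← map_smul, Ideal.toCotangent_eq_zero]
  exact hsx

/-- Formal smoothness at a prime is visible in the retraction ideal. -/
theorem retractIdeal_not_le_iff [Algebra.FormallySmooth R B] (J P : Ideal B) [P.IsPrime]
    [Module.Finite B J.Cotangent] {S : Type u} [CommRing S] [Algebra R S] [Algebra (Localization.AtPrime P) S]
    [IsScalarTower R (Localization.AtPrime P) S]
    (hsurj : Function.Surjective (algebraMap (Localization.AtPrime P) S))
    (hker : RingHom.ker (algebraMap (Localization.AtPrime P) S) = J.map (algebraMap B (Localization.AtPrime P))) :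
    ¬ retractIdeal R J ≤ P ↔ Algebra.FormallySmooth R S := by
  classical
  haveI : Algebra.FormallyEtale B (Localization.AtPrime P) := Algebra.FormallyEtale.of_isLocalization P.primeCompl
  set J' := RingHom.ker (algebraMap (Localization.AtPrime P) S) with hJ'
  have hbc := KaehlerDifferential.isBaseChange_of_formallyEtale R B (Localization.AtPrime P)
  constructor
  · intro h
    obtain ⟨s, ⟨Φ, hΦ⟩, hs⟩ := Set.not_subset.1 h
    let u : (Localization.AtPrime P)ˣ := (IsLocalization.map_units (Localization.AtPrime P) (⟨s, hs⟩ : P.primeCompl)).unit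
    have hu : ((u⁻¹ : (Localization.AtPrime P)ˣ) : Localization.AtPrime P) * algebraMap B (Localization.AtPrime P) s = 1 :=
      u.inv_mul
    let Ψ : Ω[Localization.AtPrime P⁄R] →ₗ[Localization.AtPrime P] J'.Cotangent :=
      ((u⁻¹ : (Localization.AtPrime P)ˣ) : Localization.AtPrime P) • hbc.lift ((cotLoc J J' hker.symm) ∘ₗ Φ)
    refine formallySmooth_of_retraction hsurj Ψ fun x hx => ?_
    obtain ⟨⟨⟨a, ha⟩, t⟩, hat⟩ := (IsLocalization.mem_map_algebraMap_iff P.primeCompl _).1 (hker.le hx)
    have hta : algebraMap B (Localization.AtPrime P) (t : B) * x = algebraMap B (Localization.AtPrime P) a := by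
      rw [mul_comm]; exact hat
    have hΨa : Ψ (D R (Localization.AtPrime P) (algebraMap B (Localization.AtPrime P) a)) = J'.toCotangent ⟨algebraMap B (Localization.AtPrime P) a, hker.ge (Ideal.mem_map_of_mem _ ha)⟩ := by
      rw [← KaehlerDifferential.map_D R R B (Localization.AtPrime P) a, LinearMap.smul_apply, IsBaseChange.lift_eq, LinearMap.comp_apply,
        hΦ a ha, map_smul, cotLoc_apply, ← algebraMap_smul (Localization.AtPrime P) s, smul_smul, hu, one_smul]
    have h1 : algebraMap B (Localization.AtPrime P) (t : B) • Ψ (D R (Localization.AtPrime P) x) = algebraMap B (Localization.AtPrime P) (t : B) • J'.toCotangent ⟨x, hx⟩ := by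
      have h2 : D R (Localization.AtPrime P) (algebraMap B (Localization.AtPrime P) a) = algebraMap B (Localization.AtPrime P) (t : B) • D R (Localization.AtPrime P) x + x • D R (Localization.AtPrime P) (algebraMap B (Localization.AtPrime P) t) := by
        rw [← hta, Derivation.leibniz]
      have h3 := congrArg Ψ h2
      rw [map_add, map_smul, map_smul, smul_cotangent_eq_zero hx, add_zero, hΨa] at h3
      rw [← h3, ← map_smul]
      exact congrArg _ (Subtype.ext hta.symm)
    exact (IsUnit.smul_left_cancel (IsLocalization.map_units (Localization.AtPrime P) t)).1 h1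
  · intro _ hle
    obtain ⟨Ψ, hΨ⟩ := exists_retraction (R := R) hsurj
    obtain ⟨sec, hsec⟩ := (Module.projective_def (R := B) (P := Ω[B⁄R])).1 inferInstance
    obtain ⟨n, g, hg⟩ := Submodule.fg_iff_exists_fin_generating_family.1 (Module.Finite.fg_top (R := B) (M := J.Cotangent))
    choose y hy using fun i => J.toCotangent_surjective (g i)
    let F : Finset Ω[B⁄R] := Finset.univ.biUnion fun i => (sec (D R B (y i : B))).support
    choose sw zw hsw hzw using fun w : Ω[B⁄R] =>
      cotLoc_surj J J' hker.symm (Ψ (KaehlerDifferential.map R R B (Localization.AtPrime P) w))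
    let s := ∏ w ∈ F, sw w
    have hs : s ∉ P := fun h => by
      obtain ⟨w, _, hw⟩ := (Ideal.IsPrime.prod_mem_iff).1 h
      exact hsw w hw
    let v : Ω[B⁄R] → J.Cotangent := fun w => if w ∈ F then (∏ w' ∈ F.erase w, sw w') • zw w else 0
    let Φ : Ω[B⁄R] →ₗ[B] J.Cotangent := (Finsupp.linearCombination B v) ∘ₗ sec
    have hΦ : ∀ i, cotLoc J J' hker.symm (Φ (D R B (y i : B))) = cotLoc J J' hker.symm (s • g i) := by
      intro i
      have hw : ∀ w ∈ (sec (D R B (y i : B))).support,
          cotLoc J J' hker.symm (v w) = s • Ψ (KaehlerDifferential.map R R B (Localization.AtPrime P) w) := fun w hw => by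
        have hwF : w ∈ F := Finset.mem_biUnion.2 ⟨i, Finset.mem_univ _, hw⟩
        simp only [v, if_pos hwF, map_smul, ← hzw w, smul_smul, s, Finset.prod_erase_mul _ _ hwF]
      have hD : D R B (y i : B) = ∑ w ∈ (sec (D R B (y i : B))).support, sec (D R B (y i : B)) w • w := by
        conv_lhs => rw [← hsec (D R B (y i : B)), Finsupp.linearCombination_apply]
        rfl
      simp only [Φ, LinearMap.comp_apply, Finsupp.linearCombination_apply, Finsupp.sum, map_sum, map_smul]
      rw [Finset.sum_congr rfl fun w hw' => by rw [hw w hw', smul_comm], ← Finset.smul_sum]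
      congr 1
      have h1 := congrArg (fun z => Ψ (KaehlerDifferential.map R R B (Localization.AtPrime P) z)) hD
      simp only [map_sum, map_smul, KaehlerDifferential.map_D, LinearMap.map_smul_of_tower] at h1
      have hyJ' : algebraMap B (Localization.AtPrime P) (y i : B) ∈ J' := hker.ge (Ideal.mem_map_of_mem _ (y i).2)
      rw [← h1, ← hy i, cotLoc_apply J J' hker.symm _ (y i).2, hΨ _ hyJ']
    choose t ht htz using fun i => cotLoc_eq_zero J J' hker.symm (Φ (D R B (y i : B)) - s • g i) (by rw [map_sub, hΦ i, sub_self])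
    let T := ∏ i, t i
    have hT : T ∉ P := fun h => by
      obtain ⟨i, _, hi⟩ := (Ideal.IsPrime.prod_mem_iff).1 h
      exact ht i hi
    refine Ideal.IsPrime.mul_notMem ‹_› hT hs (hle ⟨T • Φ, fun x hx => ?_⟩)
    -- both sides are linear in `x` modulo `J²`
    let L : J →ₗ[B] J.Cotangent :=
      { toFun := fun x => Φ (D R B (x : B)) - s • J.toCotangent x
        map_add' := fun a b => by simp only [Submodule.coe_add, map_add, smul_add]; abel
        map_smul' := fun a b => by
          simp only [SetLike.val_smul, smul_eq_mul, Derivation.leibniz, map_add, map_smul,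
            RingHom.id_apply, smul_cotangent_eq_zero b.2, add_zero, smul_sub, smul_comm a s] }
    have hLsq : ∀ (z : J), (z : B) ∈ J ^ 2 → L z = 0 := by
      intro z hz
      have h : ∀ q ∈ J ^ 2, Φ (D R B q) = 0 := by
        intro q hq
        rw [pow_two] at hq
        refine Submodule.mul_induction_on hq (fun a ha b hb => ?_) (fun a b ha hb => by rw [map_add, map_add, ha, hb, add_zero])
        rw [Derivation.leibniz, map_add, map_smul, map_smul, smul_cotangent_eq_zero ha, smul_cotangent_eq_zero hb, add_zero]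
      show Φ (D R B (z : B)) - s • J.toCotangent z = 0
      rw [h _ hz, (Ideal.toCotangent_eq_zero J z).2 hz, smul_zero, sub_zero]
    have hmem : J.toCotangent ⟨x, hx⟩ ∈ Submodule.span B (Set.range g) := hg ▸ Submodule.mem_top
    obtain ⟨c, hc⟩ := (Submodule.mem_span_range_iff_exists_fun B).1 hmem
    have hdiff : ((⟨x, hx⟩ - ∑ i, c i • y i : J) : B) ∈ J ^ 2 := by
      rw [← Ideal.toCotangent_eq_zero, map_sub, map_sum]
      simp only [map_smul, hy, hc, sub_self]
    have h4 := hLsq _ hdiff
    rw [map_sub, map_sum, sub_eq_zero] at h4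
    have h5 : T • L ⟨x, hx⟩ = 0 := by
      rw [h4, Finset.smul_sum]
      refine Finset.sum_eq_zero fun i _ => ?_
      rw [map_smul, smul_comm]
      show c i • T • (Φ (D R B (y i : B)) - s • J.toCotangent (y i)) = 0
      rw [hy i, show T = (∏ j ∈ Finset.univ.erase i, t j) * t i from (Finset.prod_erase_mul _ _ (Finset.mem_univ i)).symm,
        ← smul_smul _ (t i), htz i, smul_zero, smul_zero]
    rw [LinearMap.smul_apply, mul_smul, ← sub_eq_zero, ← smul_sub]
    exact h5

end Groth.Agent.JacobianLib
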