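import Mathlib
import Groth.Prelude.Def_CAlgX
import Groth.Agent.JacobianLib.Split

/-!
Formally smooth locus of a quotient of a formally smooth algebra; the adic criterion at a prime.
-/

set_option autoImplicit false
universe u
open IsLocalRing TensorProduct KaehlerDifferential

namespace Groth.Agent.JacobianLib

variable {R B C : Type u} [CommRing R] [CommRing B] [CommRing C] [Algebra R B] [Algebra B C] [Algebra R C]
  [IsScalarTower R B C]

/-- The surjection `B_P → C_p`. -/
theorem localization_data (hsurj : Function.Surjective (algebraMap B C)) (p : Ideal C) [p.IsPrime] :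
    letI : Algebra (Localization.AtPrime (p.comap (algebraMap B C))) (Localization.AtPrime p) :=
      (Localization.localRingHom _ p (algebraMap B C) rfl).toAlgebra
    IsScalarTower R (Localization.AtPrime (p.comap (algebraMap B C))) (Localization.AtPrime p) ∧
    Function.Surjective (algebraMap (Localization.AtPrime (p.comap (algebraMap B C))) (Localization.AtPrime p)) ∧
    RingHom.ker (algebraMap (Localization.AtPrime (p.comap (algebraMap B C))) (Localization.AtPrime p)) =
      (RingHom.ker (algebraMap B C)).map (algebraMap B (Localization.AtPrime (p.comap (algebraMap B C)))) := by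
  letI : Algebra (Localization.AtPrime (p.comap (algebraMap B C))) (Localization.AtPrime p) :=
    (Localization.localRingHom _ p (algebraMap B C) rfl).toAlgebra
  have hg : ∀ b, algebraMap (Localization.AtPrime (p.comap (algebraMap B C))) (Localization.AtPrime p)
      (algebraMap B _ b) = algebraMap C _ (algebraMap B C b) :=
    fun b => Localization.localRingHom_to_map _ p (algebraMap B C) rfl b
  refine ⟨IsScalarTower.of_algebraMap_eq fun a => ?_, fun z => ?_, le_antisymm (fun z hz => ?_) ?_⟩
  · rw [IsScalarTower.algebraMap_apply R B (Localization.AtPrime (p.comap (algebraMap B C))), hg,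
      ← IsScalarTower.algebraMap_apply R B C, ← IsScalarTower.algebraMap_apply]
  · obtain ⟨⟨x, s⟩, hxs⟩ := IsLocalization.surj p.primeCompl z
    obtain ⟨a, ha⟩ := hsurj x
    obtain ⟨b, hb⟩ := hsurj (s : C)
    have hbq : b ∈ (p.comap (algebraMap B C)).primeCompl := fun h => s.2 (hb ▸ h)
    refine ⟨IsLocalization.mk' _ a ⟨b, hbq⟩, (IsLocalization.map_units (Localization.AtPrime p) s).mul_right_cancel ?_⟩
    rw [hxs, ← hb, ← ha, ← hg, ← hg, ← map_mul]
    exact congrArg _ (IsLocalization.mk'_spec (Localization.AtPrime (p.comap (algebraMap B C))) a ⟨b, hbq⟩)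
  · obtain ⟨⟨a, s⟩, has⟩ := IsLocalization.surj (p.comap (algebraMap B C)).primeCompl z
    have h0 : algebraMap C (Localization.AtPrime p) (algebraMap B C a) = 0 := by
      rw [← hg, ← has, map_mul, RingHom.mem_ker.1 hz, zero_mul]
    obtain ⟨⟨t, ht⟩, hta⟩ := (IsLocalization.map_eq_zero_iff p.primeCompl _ _).1 h0
    obtain ⟨t, rfl⟩ := hsurj t
    have hta' : t * a ∈ RingHom.ker (algebraMap B C) := by rw [RingHom.mem_ker, map_mul]; exact hta
    have h1 : algebraMap B (Localization.AtPrime (p.comap (algebraMap B C))) t * (z * algebraMap B _ (s : B)) ∈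
        (RingHom.ker (algebraMap B C)).map (algebraMap B (Localization.AtPrime (p.comap (algebraMap B C)))) := by
      rw [has, ← map_mul]; exact Ideal.mem_map_of_mem _ hta'
    exact (Ideal.mul_unit_mem_iff_mem _ (IsLocalization.map_units _ s)).1
      ((Ideal.unit_mul_mem_iff_mem _ (IsLocalization.map_units (Localization.AtPrime (p.comap (algebraMap B C))) (⟨t, ht⟩ : (p.comap (algebraMap B C)).primeCompl))).1 h1)
  · refine Ideal.map_le_iff_le_comap.2 fun a ha => ?_
    rw [Ideal.mem_comap, RingHom.mem_ker, hg, RingHom.mem_ker.1 ha, map_zero]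

theorem retractIdeal_not_le_iff' [Algebra.FormallySmooth R B] (hsurj : Function.Surjective (algebraMap B C))
    [Module.Finite B (RingHom.ker (algebraMap B C)).Cotangent] (p : Ideal C) [p.IsPrime] :
    ¬ retractIdeal R (RingHom.ker (algebraMap B C)) ≤ p.comap (algebraMap B C) ↔
      Algebra.FormallySmooth R (Localization.AtPrime p) := by
  letI : Algebra (Localization.AtPrime (p.comap (algebraMap B C))) (Localization.AtPrime p) :=
    (Localization.localRingHom _ p (algebraMap B C) rfl).toAlgebra
  obtain ⟨h1, h2, h3⟩ := localization_data (R := R) hsurj p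
  haveI := h1
  exact retractIdeal_not_le_iff _ _ h2 h3

theorem isOpen_formallySmooth [Algebra.FormallySmooth R B] (hsurj : Function.Surjective (algebraMap B C))
    [Module.Finite B (RingHom.ker (algebraMap B C)).Cotangent] :
    IsOpen {p : PrimeSpectrum C | Algebra.FormallySmooth R (Localization.AtPrime p.asIdeal)} := by
  have : {p : PrimeSpectrum C | Algebra.FormallySmooth R (Localization.AtPrime p.asIdeal)} =
      (PrimeSpectrum.comap (algebraMap B C)) ⁻¹'
        (PrimeSpectrum.zeroLocus (retractIdeal R (RingHom.ker (algebraMap B C)) : Set B))ᶜ := by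
    ext p
    rw [Set.mem_ofPred_eq, ← retractIdeal_not_le_iff' hsurj p.asIdeal]
    rfl
  rw [this]
  exact (PrimeSpectrum.isClosed_zeroLocus _).isOpen_compl.preimage (PrimeSpectrum.continuous_comap _)

theorem formallySmooth_iff_localization [Algebra.FormallySmooth R B] (hsurj : Function.Surjective (algebraMap B C))
    [Module.Finite B (RingHom.ker (algebraMap B C)).Cotangent] :
    Algebra.FormallySmooth R C ↔
      ∀ (m : Ideal C) [m.IsMaximal], Algebra.FormallySmooth R (Localization.AtPrime m) := by
  rw [← one_mem_retractIdeal_iff (R := R) hsurj]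
  constructor
  · intro h m _
    rw [← retractIdeal_not_le_iff' hsurj m]
    exact fun hle => (Ideal.IsPrime.comap (algebraMap B C) (K := m)).ne_top ((Ideal.eq_top_iff_one _).2 (hle h))
  · intro h
    by_contra hne
    obtain ⟨M, hM, hle⟩ := Ideal.exists_le_maximal _ (fun ht => hne ((Ideal.eq_top_iff_one _).1 ht))
    have hkM : RingHom.ker (algebraMap B C) ≤ M := (le_retractIdeal _).trans hle
    haveI : (M.map (algebraMap B C)).IsMaximal := by
      refine (Ideal.map_eq_top_or_isMaximal_of_surjective _ hsurj hM).resolve_left fun ht => hM.ne_top ?_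
      have := congrArg (Ideal.comap (algebraMap B C)) ht
      rwa [Ideal.comap_map_of_surjective' _ hsurj, sup_eq_left.2 hkM, Ideal.comap_top] at this
    refine (retractIdeal_not_le_iff' (R := R) hsurj (M.map (algebraMap B C))).2 (h _) ?_
    rw [Ideal.comap_map_of_surjective' _ hsurj, sup_eq_left.2 hkM]
    exact hle

/-- `1 ⊗ w = 0` in `κ(P) ⊗ M` iff a multiple of `w` by something outside `P` lies in `P M`. -/
theorem one_tmul_eq_zero_iff (P : Ideal B) [P.IsPrime] (κ : Type u) [Field κ] [Algebra B κ]
    (hP : RingHom.ker (algebraMap B κ) = P) (hfrac : ∀ z : κ, ∃ a s : B, s ∉ P ∧ z * algebraMap B κ s = algebraMap B κ a)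
    {M : Type u} [AddCommGroup M] [Module B M] (w : M) :
    (1 : κ) ⊗ₜ[B] w = 0 ↔ ∃ t, t ∉ P ∧ t • w ∈ P • (⊤ : Submodule B M) := by
  have hne : ∀ t : B, t ∉ P → algebraMap B κ t ≠ 0 := fun t ht h => ht (hP ▸ h)
  constructor
  · intro h
    let L := LocalizedModule P.primeCompl (M ⧸ P • (⊤ : Submodule B M))
    let g : (B ⧸ P) →ₗ[B] κ := Submodule.liftQ P (Algebra.linearMap B κ) hP.ge
    have hunit : ∀ x : P.primeCompl, IsUnit ((algebraMap B (Module.End B κ)) x) := fun x => by
      rw [Module.End.isUnit_iff]
      change Function.Bijective fun z : κ => (x : B) • z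
      simp_rw [Algebra.smul_def]
      exact mulLeft_bijective₀ _ (hne x x.2)
    haveI : IsLocalizedModule P.primeCompl g := by
      constructor
      · exact hunit
      · intro z
        obtain ⟨a, s, hs, hz⟩ := hfrac z
        refine ⟨⟨Submodule.Quotient.mk a, ⟨s, hs⟩⟩, ?_⟩
        show s • z = algebraMap B κ a
        rw [Algebra.smul_def, mul_comm]
        exact hz
      · intro a b hab
        obtain ⟨a, rfl⟩ := Submodule.Quotient.mk_surjective _ a
        obtain ⟨b, rfl⟩ := Submodule.Quotient.mk_surjective _ b
        refine ⟨1, ?_⟩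
        rw [one_smul, one_smul, Submodule.Quotient.eq, ← hP, RingHom.mem_ker, map_sub, sub_eq_zero]
        exact hab
    let G : (B ⧸ P) →ₗ[B] (M →ₗ[B] L) := Submodule.liftQ P
      (LinearMap.toSpanSingleton B _ ((LocalizedModule.mkLinearMap P.primeCompl _) ∘ₗ (P • (⊤ : Submodule B M)).mkQ))
      fun a ha => by
        refine LinearMap.ext fun m => ?_
        simp only [LinearMap.toSpanSingleton_apply, LinearMap.smul_apply, LinearMap.zero_apply, LinearMap.comp_apply,
          ← map_smul]
        rw [show (P • (⊤ : Submodule B M)).mkQ (a • m) = 0 from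
          (Submodule.Quotient.mk_eq_zero _).2 (Submodule.smul_mem_smul ha Submodule.mem_top), map_zero]
    have hEnd : ∀ x : P.primeCompl, IsUnit ((algebraMap B (Module.End B (M →ₗ[B] L))) x) := fun x => by
      rw [Module.End.isUnit_iff]
      change Function.Bijective fun φ : M →ₗ[B] L => (x : B) • φ
      have hb := (Module.End.isUnit_iff _).1 (IsLocalizedModule.map_units (LocalizedModule.mkLinearMap P.primeCompl _) x :
        IsUnit ((algebraMap B (Module.End B L)) x))
      let e := LinearEquiv.ofBijective _ hb
      refine ⟨fun a b hab => LinearMap.ext fun m => e.injective (LinearMap.congr_fun hab m), fun φ => ⟨e.symm.toLinearMap ∘ₗ φ, ?_⟩⟩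
      exact LinearMap.ext fun m => e.apply_symm_apply (φ m)
    let ν := TensorProduct.lift (IsLocalizedModule.lift P.primeCompl g G hEnd)
    have h1 : ν ((1 : κ) ⊗ₜ[B] w) = LocalizedModule.mkLinearMap P.primeCompl _ ((P • (⊤ : Submodule B M)).mkQ w) := by
      have hlift := LinearMap.congr_fun (IsLocalizedModule.lift_comp P.primeCompl g G hEnd) (Submodule.Quotient.mk 1)
      simp only [LinearMap.comp_apply, g, G, Submodule.liftQ_apply, Algebra.linearMap_apply, map_one,
        LinearMap.toSpanSingleton_apply, one_smul] at hlift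
      rw [show ν ((1 : κ) ⊗ₜ[B] w) = IsLocalizedModule.lift P.primeCompl g G hEnd 1 w from rfl, hlift]
      rfl
    rw [h, map_zero] at h1
    obtain ⟨t, ht⟩ := (IsLocalizedModule.eq_zero_iff P.primeCompl _).1 h1.symm
    refine ⟨t, t.2, ?_⟩
    rw [← Submodule.Quotient.mk_eq_zero, Submodule.Quotient.mk_smul]
    exact ht
  · rintro ⟨t, ht, htw⟩
    have h0 : ∀ v ∈ P • (⊤ : Submodule B M), (1 : κ) ⊗ₜ[B] v = 0 := fun v hv => by
      refine Submodule.smul_induction_on hv (fun a ha m _ => ?_) (fun a b ha hb => by rw [TensorProduct.tmul_add, ha, hb, add_zero])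
      rw [← TensorProduct.smul_tmul, ← Algebra.algebraMap_eq_smul_one, RingHom.mem_ker.1 (hP ▸ ha : a ∈ RingHom.ker (algebraMap B κ)),
        TensorProduct.zero_tmul]
    have := h0 _ htw
    rw [← TensorProduct.smul_tmul] at this
    have h2 := congrArg (fun z => (algebraMap B κ t)⁻¹ • z) this
    simp only [smul_zero, TensorProduct.smul_tmul', ← Algebra.algebraMap_eq_smul_one, smul_eq_mul] at h2
    rwa [inv_mul_cancel₀ (hne t ht)] at h2

end Groth.Agent.JacobianLib
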