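import Mathlib
import Groth.Prelude.Def_CAlgX
import Groth.Agent.JacobianLib.Basic
import Groth.Agent.JacobianLib.Locus

/-!
Adic formal smoothness at a prime through the Jacobian condition.
-/

set_option autoImplicit false
universe u
open IsLocalRing TensorProduct KaehlerDifferential

namespace Groth.Agent.JacobianLib

/-- Adic formal smoothness makes the conormal map injective on the closed point. -/
theorem mem_of_adic {R S P : Type u} [CommRing R] [CommRing S] [IsLocalRing S] [CommRing P] [IsLocalRing P]
    [IsNoetherianRing P] [Algebra R S] [Algebra R P] [Algebra P S] [IsScalarTower R P S]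
    (hsurj : Function.Surjective (algebraMap P S))
    (h : CAlgX.IsAdicFormallySmooth R S (maximalIdeal S)) {x : P} (hx : x ∈ RingHom.ker (algebraMap P S))
    (hD : D R P x ∈ maximalIdeal P • (⊤ : Submodule P Ω[P⁄R])) :
    x ∈ maximalIdeal P * RingHom.ker (algebraMap P S) := by
  set I := RingHom.ker (algebraMap P S) with hI
  set n := maximalIdeal P with hn
  have hIn : I ≤ n := IsLocalRing.le_maximalIdeal (RingHom.ker_ne_top _)
  have hmS : maximalIdeal S ≤ n.map (algebraMap P S) := fun z hz => by
    obtain ⟨p, rfl⟩ := hsurj z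
    refine Ideal.mem_map_of_mem _ ?_
    rw [hn, mem_maximalIdeal] at *
    exact fun hu => hz (hu.map _)
  have hxk : ∀ k : ℕ, x ∈ n ^ k ⊔ n * I := by
    intro k
    let K : Ideal P := n ^ k ⊔ n * I
    let J : Ideal (P ⧸ K) := I.map (Ideal.Quotient.mk K)
    have hJn : ∀ c ∈ J, ∀ a ∈ n, Ideal.Quotient.mk K a * c = 0 := by
      intro c hc a ha
      obtain ⟨i, hi, rfl⟩ := (Ideal.mem_map_iff_of_surjective _ Ideal.Quotient.mk_surjective).1 hc
      rw [← map_mul, Ideal.Quotient.eq_zero_iff_mem]
      exact Submodule.mem_sup_right (Ideal.mul_mem_mul ha hi)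
    have hJJ : ∀ a ∈ J, ∀ b ∈ J, a * b = 0 := by
      intro a ha b hb
      obtain ⟨i, hi, rfl⟩ := (Ideal.mem_map_iff_of_surjective _ Ideal.Quotient.mk_surjective).1 ha
      exact hJn b hb i (hIn hi)
    have hJ2 : J ^ 2 = ⊥ := by
      rw [pow_two, eq_bot_iff, Ideal.mul_le]
      exact fun a ha b hb => (Submodule.mem_bot _).2 (hJJ a ha b hb)
    let π : P →ₐ[R] P ⧸ K := Ideal.Quotient.mkₐ R K
    let e := Ideal.quotientKerAlgEquivOfSurjective (f := IsScalarTower.toAlgHom R P S) hsurj
    let u : S →ₐ[R] (P ⧸ K) ⧸ J := (Ideal.Quotient.liftₐ (RingHom.ker (IsScalarTower.toAlgHom R P S))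
      ((Ideal.Quotient.mkₐ R J).comp π) (fun i hi => Ideal.Quotient.eq_zero_iff_mem.2
        (Ideal.mem_map_of_mem _ hi))).comp e.symm.toAlgHom
    have hu : ∀ p : P, u (algebraMap P S p) = Ideal.Quotient.mk J (Ideal.Quotient.mk K p) := by
      intro p
      have : e.symm (algebraMap P S p) = Ideal.Quotient.mk _ p := by
        rw [AlgEquiv.symm_apply_eq]; rfl
      simp only [u, AlgHom.comp_apply]
      erw [this]
      rfl
    obtain ⟨v, hv⟩ := h (P ⧸ K) J hJ2 u ⟨k, fun z hz => by
      have := Ideal.pow_right_mono hmS k hz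
      rw [← Ideal.map_pow, Ideal.mem_map_iff_of_surjective _ hsurj] at this
      obtain ⟨p, hp, rfl⟩ := this
      rw [hu, Ideal.Quotient.eq_zero_iff_mem.2 (Submodule.mem_sup_left hp : p ∈ K), map_zero]⟩
    let g : P →ₐ[R] P ⧸ K := v.comp (IsScalarTower.toAlgHom R P S)
    have hΔ : ∀ p, π p - g p ∈ J := by
      intro p
      rw [← Ideal.Quotient.eq_zero_iff_mem, map_sub, sub_eq_zero]
      exact ((AlgHom.congr_fun hv (algebraMap P S p)).trans (hu p)).symm
    let d₀ : P →ₗ[R] J :=
      LinearMap.codRestrict (J.restrictScalars R) (π.toLinearMap - g.toLinearMap) hΔ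
    let d : Derivation R P J := Derivation.mk' d₀ fun a b => by
      apply Subtype.ext
      show π (a * b) - g (a * b) = ((a • d₀ b + b • d₀ a : J) : P ⧸ K)
      have h0 := hJJ _ (hΔ a) _ (hΔ b)
      simp only [Submodule.coe_add, SetLike.val_smul_of_tower, map_mul]
      rw [Algebra.smul_def, Algebra.smul_def]
      show π a * π b - g a * g b = π a * (π b - g b) + π b * (π a - g a)
      linear_combination -h0
    have hL : ∀ w ∈ n • (⊤ : Submodule P Ω[P⁄R]), d.liftKaehlerDifferential w = 0 := by
      intro w hw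
      refine Submodule.smul_induction_on hw (fun a ha z _ => ?_) (fun a b ha hb => by rw [map_add, ha, hb, add_zero])
      rw [map_smul]
      apply Subtype.ext
      rw [SetLike.val_smul_of_tower, Algebra.smul_def]
      exact hJn _ (d.liftKaehlerDifferential z).2 a ha
    have h0 := hL _ hD
    rw [Derivation.liftKaehlerDifferential_comp_D] at h0
    have h1 : π x - g x = 0 := congrArg Subtype.val h0
    have hg0 : g x = 0 := by
      show v (algebraMap P S x) = 0
      rw [show algebraMap P S x = 0 from hx, map_zero]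
    rw [hg0, sub_zero] at h1
    exact Ideal.Quotient.eq_zero_iff_mem.1 h1
  haveI : Nontrivial (P ⧸ n * I) := Ideal.Quotient.nontrivial_iff.2 (ne_top_of_le_ne_top
    (maximalIdeal.isMaximal P).ne_top Ideal.mul_le_left)
  haveI : IsLocalRing (P ⧸ n * I) := IsLocalRing.of_surjective' _ Ideal.Quotient.mk_surjective
  rw [← Ideal.Quotient.eq_zero_iff_mem]
  have hne : n.map (Ideal.Quotient.mk (n * I)) ≠ ⊤ := fun h => by
    refine (maximalIdeal.isMaximal P).ne_top ?_
    have h2 := congrArg (Ideal.comap (Ideal.Quotient.mk (n * I))) h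
    rw [Ideal.comap_map_of_surjective' _ Ideal.Quotient.mk_surjective, Ideal.mk_ker,
      Ideal.comap_top, sup_eq_left.2 Ideal.mul_le_left] at h2
    exact h2
  rw [← Submodule.mem_bot (P ⧸ n * I), ← Ideal.iInf_pow_eq_bot_of_isLocalRing _ hne, Submodule.mem_iInf]
  intro k
  rw [← Ideal.map_pow]
  obtain ⟨a, ha, b, hb, hab⟩ := Submodule.mem_sup.1 (hxk k)
  rw [← hab, map_add, Ideal.Quotient.eq_zero_iff_mem.2 hb, add_zero]
  exact Ideal.mem_map_of_mem _ ha

/-- Localizing the base does not change adic formal smoothness. -/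
theorem adic_iff_of_localization {A Aq S : Type u} [CommRing A] [CommRing Aq] [CommRing S] [Algebra A Aq]
    [Algebra A S] [Algebra Aq S] [IsScalarTower A Aq S] (M : Submonoid A) [IsLocalization M Aq] (I : Ideal S) :
    CAlgX.IsAdicFormallySmooth Aq S I ↔ CAlgX.IsAdicFormallySmooth A S I := by
  constructor
  · intro h T _ _ J hJ ψ hψ
    have hu : ∀ s : M, IsUnit (Algebra.ofId A T s) := fun s => by
      have h1 : IsUnit (Ideal.Quotient.mk J (algebraMap A T s)) := by
        have h2 := ((IsLocalization.map_units Aq s).map (algebraMap Aq S)).map ψ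
        rw [← IsScalarTower.algebraMap_apply, AlgHom.commutes] at h2
        exact h2
      obtain ⟨w, hw⟩ := h1
      obtain ⟨v, hv⟩ := Ideal.Quotient.mk_surjective ((w⁻¹ : (T ⧸ J)ˣ) : T ⧸ J)
      have h3 : algebraMap A T s * v - 1 ∈ J := by
        rw [← Ideal.Quotient.eq, map_mul, map_one, hv, ← hw, Units.mul_inv]
      have h4 : IsUnit (algebraMap A T s * v) := by
        have hnil : IsNilpotent (algebraMap A T s * v - 1) := ⟨2, by
          have h5 : (algebraMap A T s * v - 1) ^ 2 ∈ J ^ 2 := Ideal.pow_mem_pow h3 2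
          rwa [hJ, Submodule.mem_bot] at h5⟩
        simpa using hnil.isUnit_one_add
      exact isUnit_of_mul_isUnit_left h4
    let φ : Aq →ₐ[A] T := IsLocalization.liftAlgHom (f := Algebra.ofId A T) hu
    letI : Algebra Aq T := φ.toRingHom.toAlgebra
    haveI : IsScalarTower A Aq T := IsScalarTower.of_algHom φ
    let ψ' : S →ₐ[Aq] T ⧸ J :=
      { ψ.toRingHom with
        commutes' := fun a => by
          have : (ψ.toRingHom.comp (algebraMap Aq S)) = algebraMap Aq (T ⧸ J) := by
            refine IsLocalization.ringHom_ext M (RingHom.ext fun b => ?_)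
            simp only [RingHom.comp_apply, ← IsScalarTower.algebraMap_apply A Aq S]
            rw [← IsScalarTower.algebraMap_apply A Aq (T ⧸ J)]
            exact ψ.commutes b
          exact RingHom.congr_fun this a }
    obtain ⟨χ, hχ⟩ := h T J hJ ψ' hψ
    exact ⟨χ.restrictScalars A, AlgHom.ext fun s => AlgHom.congr_fun hχ s⟩
  · intro h T _ _ J hJ ψ hψ
    letI : Algebra A T := ((algebraMap Aq T).comp (algebraMap A Aq)).toAlgebra
    haveI : IsScalarTower A Aq T := IsScalarTower.of_algebraMap_eq fun _ => rfl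
    obtain ⟨χ, hχ⟩ := h T J hJ (ψ.restrictScalars A) hψ
    refine ⟨{ χ.toRingHom with commutes' := fun a => ?_ }, AlgHom.ext fun s => AlgHom.congr_fun hχ s⟩
    have : (χ.toRingHom.comp (algebraMap Aq S)) = algebraMap Aq T := by
      refine IsLocalization.ringHom_ext M (RingHom.ext fun b => ?_)
      simp only [RingHom.comp_apply, ← IsScalarTower.algebraMap_apply A Aq S]
      exact χ.commutes b
    exact RingHom.congr_fun this a

variable {R B C : Type u} [CommRing R] [CommRing B] [CommRing C] [Algebra R B] [Algebra B C] [Algebra R C]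
  [IsScalarTower R B C]

/-- The adic Jacobian criterion at a prime. -/
theorem adic_iff_injective [IsNoetherianRing B] [Algebra.FormallySmooth R B]
    (hsurj : Function.Surjective (algebraMap B C)) (p : Ideal C) [p.IsPrime] :
    CAlgX.IsAdicFormallySmooth R (Localization.AtPrime p) (maximalIdeal (Localization.AtPrime p)) ↔
      Function.Injective ((kerCotangentToTensor R B C).lTensor p.ResidueField) := by
  set P := p.comap (algebraMap B C) with hP
  letI : Algebra (Localization.AtPrime P) (Localization.AtPrime p) :=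
    (Localization.localRingHom _ p (algebraMap B C) rfl).toAlgebra
  obtain ⟨h1, hs, hker⟩ := localization_data (R := R) hsurj p
  haveI := h1
  haveI : IsNoetherianRing (Localization.AtPrime P) := IsLocalization.isNoetherianRing P.primeCompl _ inferInstance
  let J := RingHom.ker (algebraMap B C)
  have hJP : J ≤ P := fun a ha => by
    show algebraMap B C a ∈ p
    rw [RingHom.mem_ker.1 ha]; exact p.zero_mem
  have hkP : RingHom.ker (algebraMap B p.ResidueField) = P := by
    ext b
    rw [RingHom.mem_ker, IsScalarTower.algebraMap_apply B C p.ResidueField, Ideal.algebraMap_residueField_eq_zero]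
    rfl
  have hfrac : ∀ z : p.ResidueField, ∃ a s : B, s ∉ P ∧ z * algebraMap B p.ResidueField s = algebraMap B p.ResidueField a := by
    intro z
    obtain ⟨⟨a, s⟩, has⟩ := IsLocalization.surj (nonZeroDivisors (C ⧸ p)) z
    obtain ⟨a', rfl⟩ := Ideal.Quotient.mk_surjective a
    obtain ⟨s', hs'⟩ := Ideal.Quotient.mk_surjective (s : C ⧸ p)
    obtain ⟨a, rfl⟩ := hsurj a'
    obtain ⟨t, rfl⟩ := hsurj s'
    refine ⟨a, t, fun ht => nonZeroDivisors.ne_zero s.2 (by rw [← hs']; exact Ideal.Quotient.eq_zero_iff_mem.2 ht), ?_⟩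
    rw [IsScalarTower.algebraMap_apply B C p.ResidueField, IsScalarTower.algebraMap_apply B C p.ResidueField,
      IsScalarTower.algebraMap_apply C (C ⧸ p) p.ResidueField, IsScalarTower.algebraMap_apply C (C ⧸ p) p.ResidueField,
      Ideal.Quotient.algebraMap_eq, hs']
    exact has
  constructor
  · intro h
    rw [injective_iff_map_eq_zero]
    intro ξ hξ
    obtain ⟨s, w, hs0, hw⟩ : ∃ (s : B) (w : J.Cotangent), s ∉ P ∧ s • ξ = (1 : p.ResidueField) ⊗ₜ[B] w := by
      clear hξ
      induction ξ using TensorProduct.induction_on with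
      | zero => exact ⟨1, 0, fun h1 => (Ideal.IsPrime.comap (algebraMap B C) (K := p)).ne_top ((Ideal.eq_top_iff_one _).2 h1), by simp⟩
      | tmul z y =>
        obtain ⟨a, s, hs, hz⟩ := hfrac z
        refine ⟨s, a • y, hs, ?_⟩
        rw [TensorProduct.smul_tmul', Algebra.smul_def, mul_comm, hz, Algebra.algebraMap_eq_smul_one, TensorProduct.smul_tmul]
      | add u v hu hv =>
        obtain ⟨s, w, hs, hsw⟩ := hu
        obtain ⟨t, w', ht, htw⟩ := hv
        refine ⟨s * t, t • w + s • w', Ideal.IsPrime.mul_notMem (Ideal.IsPrime.comap _) hs ht, ?_⟩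
        rw [smul_add, TensorProduct.tmul_add, TensorProduct.tmul_smul, TensorProduct.tmul_smul, ← hsw, ← htw,
          smul_smul, smul_smul, mul_comm s t]
    obtain ⟨⟨x, hx⟩, rfl⟩ := J.toCotangent_surjective w
    have h0 : (1 : p.ResidueField) ⊗ₜ[B] kerCotangentToTensor R B C (J.toCotangent ⟨x, hx⟩) = 0 := by
      have := congrArg ((kerCotangentToTensor R B C).lTensor p.ResidueField) hw
      rw [map_smul, hξ, smul_zero, LinearMap.lTensor_tmul] at this
      exact this.symm
    rw [kerCotangentToTensor_toCotangent] at h0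
    obtain ⟨t, ht, htD⟩ := (one_tmul_eq_zero_iff P p.ResidueField hkP hfrac _).1 h0
    let θ : (B ⧸ J) ≃ₐ[B] C := Ideal.quotientKerAlgEquivOfSurjective (f := Algebra.ofId B C) hsurj
    let e : C ⊗[B] Ω[B⁄R] ≃ₗ[B] Ω[B⁄R] ⧸ J • (⊤ : Submodule B Ω[B⁄R]) :=
      (TensorProduct.congr θ.toLinearEquiv.symm (LinearEquiv.refl B Ω[B⁄R])).trans (quotTensorEquivQuotSMul Ω[B⁄R] J)
    have he : e ((1 : C) ⊗ₜ[B] D R B x) = Submodule.Quotient.mk (D R B x) := by
      simp only [e, LinearEquiv.trans_apply, TensorProduct.congr_tmul, LinearEquiv.refl_apply]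
      rw [show θ.toLinearEquiv.symm 1 = 1 from map_one θ.symm, quotTensorEquivQuotSMul_mk_one_tmul]
    have htD' : t • D R B x ∈ P • (⊤ : Submodule B Ω[B⁄R]) := by
      have h2 := Submodule.mem_map_of_mem (f := e.toLinearMap) htD
      rw [Submodule.map_smul'', Submodule.map_top, LinearEquiv.range, LinearEquiv.coe_coe, map_smul, he,
        ← Submodule.Quotient.mk_smul, ← Submodule.range_mkQ (J • (⊤ : Submodule B Ω[B⁄R])), LinearMap.range_eq_map,
        ← Submodule.map_smul''] at h2
      obtain ⟨y, hy, hyx⟩ := h2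
      have h3 := (Submodule.Quotient.eq _).1 hyx
      have := sub_mem hy (Submodule.smul_mono_left hJP h3)
      simpa using this
    have hxn : algebraMap B (Localization.AtPrime P) x ∈ maximalIdeal (Localization.AtPrime P) *
        RingHom.ker (algebraMap (Localization.AtPrime P) (Localization.AtPrime p)) := by
      refine mem_of_adic hs h (hker.ge (Ideal.mem_map_of_mem _ hx)) ?_
      have hmap : ∀ v ∈ P • (⊤ : Submodule B Ω[B⁄R]), KaehlerDifferential.map R R B (Localization.AtPrime P) v ∈
          maximalIdeal (Localization.AtPrime P) • (⊤ : Submodule (Localization.AtPrime P) Ω[Localization.AtPrime P⁄R]) := fun v hv => by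
        refine Submodule.smul_induction_on hv (fun a ha z _ => ?_) (fun a b ha hb => by rw [map_add]; exact add_mem ha hb)
        rw [map_smul, ← algebraMap_smul (Localization.AtPrime P) a]
        exact Submodule.smul_mem_smul ((IsLocalization.AtPrime.to_map_mem_maximal_iff _ P a).2 ha) Submodule.mem_top
      have h4 := hmap _ htD'
      rw [map_smul, KaehlerDifferential.map_D, ← algebraMap_smul (Localization.AtPrime P) t] at h4
      exact (Submodule.smul_mem_iff_of_isUnit _ (IsLocalization.map_units (Localization.AtPrime P) (⟨t, ht⟩ : P.primeCompl))).1 h4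
    rw [hker, ← Localization.AtPrime.map_eq_maximalIdeal, ← Ideal.map_mul,
      IsLocalization.algebraMap_mem_map_algebraMap_iff P.primeCompl] at hxn
    obtain ⟨t', ht', htx⟩ := hxn
    have h5 : (1 : p.ResidueField) ⊗ₜ[B] J.toCotangent ⟨x, hx⟩ = 0 := by
      refine (one_tmul_eq_zero_iff P p.ResidueField hkP hfrac _).2 ⟨t', ht', ?_⟩
      obtain ⟨y, hy, hyx⟩ : ∃ y ∈ P • (⊤ : Submodule B J), (y : B) = t' * x := by
        have h6 : t' * x ∈ Submodule.map J.subtype (P • (⊤ : Submodule B J)) := by
          rw [Submodule.map_smul'', Submodule.map_top, Submodule.range_subtype]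
          exact htx
        exact h6
      have h7 := Submodule.mem_map_of_mem (f := J.toCotangent) hy
      rw [Submodule.map_smul'', Submodule.map_top, LinearMap.range_eq_top.2 J.toCotangent_surjective] at h7
      rw [← map_smul]
      rwa [show t' • (⟨x, hx⟩ : J) = y from Subtype.ext hyx.symm]
    rw [h5] at hw
    have h8 := congrArg (fun z => (algebraMap B p.ResidueField s)⁻¹ • z) hw
    simp only [smul_zero] at h8
    rw [← algebraMap_smul p.ResidueField s ξ, smul_smul, inv_mul_cancel₀ (fun h0 => hs0 (by rw [← hkP]; exact h0)), one_smul] at h8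
    exact h8
  · intro hinj
    haveI : Algebra.FormallySmooth R (Localization.AtPrime p) := by
      rw [iff_minor (R := R) P J hJP hs hker]
      refine exists_minor_of_indep P J hJP fun x hx hD => ?_
      have h0 : (1 : p.ResidueField) ⊗ₜ[B] J.toCotangent ⟨x, hx⟩ = 0 := by
        apply hinj
        rw [LinearMap.lTensor_tmul, map_zero, kerCotangentToTensor_toCotangent]
        refine (one_tmul_eq_zero_iff P p.ResidueField hkP hfrac _).2 ⟨1, fun h1 => (Ideal.IsPrime.comap (algebraMap B C) (K := p)).ne_top ((Ideal.eq_top_iff_one _).2 h1), ?_⟩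
        rw [one_smul]
        have h2 := Submodule.mem_map_of_mem (f := TensorProduct.mk B C Ω[B⁄R] 1) hD
        rw [Submodule.map_smul''] at h2
        exact Submodule.smul_mono le_rfl le_top h2
      obtain ⟨t, ht, htw⟩ := (one_tmul_eq_zero_iff P p.ResidueField hkP hfrac _).1 h0
      have h3 : t * x ∈ P * J := by
        rw [← map_smul, show (⊤ : Submodule B J.Cotangent) = Submodule.map J.toCotangent ⊤ by
          rw [Submodule.map_top, LinearMap.range_eq_top.2 J.toCotangent_surjective], ← Submodule.map_smul''] at htw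
        obtain ⟨y, hy, hyx⟩ := htw
        have h4 := Submodule.mem_map_of_mem (f := J.subtype) hy
        rw [Submodule.map_smul'', Submodule.map_top, Submodule.range_subtype] at h4
        have h5 := (Ideal.toCotangent_eq J).1 hyx
        have h6 : (y : B) - t * x ∈ P * J := by
          refine Ideal.mul_mono_left hJP ?_
          rw [← pow_two]; exact h5
        have := sub_mem (show (y : B) ∈ P * J from h4) h6
        simpa using this
      rw [← Localization.AtPrime.map_eq_maximalIdeal, ← Ideal.map_mul,
        IsLocalization.algebraMap_mem_map_algebraMap_iff P.primeCompl]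
      exact ⟨t, ht, h3⟩
    intro T _ _ I hI u _
    exact ⟨Algebra.FormallySmooth.lift I ⟨2, hI⟩ u, Algebra.FormallySmooth.comp_lift I ⟨2, hI⟩ u⟩

end Groth.Agent.JacobianLib
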