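import Mathlib
import Groth.Prelude.Def_CAlgX

/-!
The Jacobian criterion for formal smoothness in the adic topology of an arbitrary ideal.
-/

set_option autoImplicit false
universe u
open TensorProduct KaehlerDifferential

namespace Groth.Agent.JacobianLib

variable {A B : Type u} [CommRing A] [CommRing B] [Algebra A B]

/-- Derivations into modules killed by a power of `I` lift along surjections. -/
theorem exists_lift_derivation {I L : Ideal B} (hB : CAlgX.IsAdicFormallySmooth A B I) {k : ℕ}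
    (hL : I ^ k ≤ L) {E E' : Type u} [AddCommGroup E] [Module B E] [Module A E] [IsScalarTower A B E]
    [AddCommGroup E'] [Module B E'] [Module A E'] [IsScalarTower A B E']
    (hE : ∀ a ∈ L, ∀ e : E, a • e = 0) (f : E →ₗ[B] E') (hf : Function.Surjective f)
    (d' : Derivation A B E') : ∃ d : Derivation A B E, ∀ b, f (d b) = d' b := by
  have hE' : ∀ a ∈ L, ∀ e : E', a • e = 0 := fun a ha e => by
    obtain ⟨e, rfl⟩ := hf e
    rw [← map_smul, hE a ha, map_zero]
  letI : Module (B ⧸ L) E :=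
    Module.IsTorsionBySet.module (I := L) (fun e a => hE a a.2 e)
  letI : Module (B ⧸ L) E' :=
    Module.IsTorsionBySet.module (I := L) (fun e a => hE' a a.2 e)
  haveI : IsScalarTower B (B ⧸ L) E :=
    Module.IsTorsionBySet.isScalarTower (I := L) (fun e a => hE a a.2 e)
  haveI : IsScalarTower B (B ⧸ L) E' :=
    Module.IsTorsionBySet.isScalarTower (I := L) (fun e a => hE' a a.2 e)
  haveI : IsScalarTower A (B ⧸ L) E := IsScalarTower.of_algebraMap_smul fun a e => by
    rw [IsScalarTower.algebraMap_apply A B (B ⧸ L), algebraMap_smul, algebraMap_smul]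
  haveI : IsScalarTower A (B ⧸ L) E' := IsScalarTower.of_algebraMap_smul fun a e => by
    rw [IsScalarTower.algebraMap_apply A B (B ⧸ L), algebraMap_smul, algebraMap_smul]
  letI : Module (B ⧸ L)ᵐᵒᵖ E := Module.compHom E ((RingHom.id (B ⧸ L)).fromOpposite mul_comm)
  haveI : IsCentralScalar (B ⧸ L) E := ⟨fun _ _ => rfl⟩
  letI : Module (B ⧸ L)ᵐᵒᵖ E' := Module.compHom E' ((RingHom.id (B ⧸ L)).fromOpposite mul_comm)
  haveI : IsCentralScalar (B ⧸ L) E' := ⟨fun _ _ => rfl⟩
  haveI : IsScalarTower A (B ⧸ L)ᵐᵒᵖ E := ⟨fun a q e => by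
    induction q using MulOpposite.rec' with
    | h q => exact smul_assoc a q e⟩
  haveI : IsScalarTower A (B ⧸ L)ᵐᵒᵖ E' := ⟨fun a q e => by
    induction q using MulOpposite.rec' with
    | h q => exact smul_assoc a q e⟩
  let π : TrivSqZeroExt (B ⧸ L) E →ₐ[A] TrivSqZeroExt (B ⧸ L) E' :=
    (TrivSqZeroExt.map (f.extendScalarsOfSurjective (R := B) (S := B ⧸ L) Ideal.Quotient.mk_surjective)).restrictScalars A
  have hπf : ∀ z, (π z).fst = z.fst := fun z => by simp [π]
  have hπs : ∀ z, (π z).snd = f z.snd := fun z => by simp [π]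
  have hπsurj : Function.Surjective π := fun z => by
    obtain ⟨e, he⟩ := hf z.snd
    exact ⟨TrivSqZeroExt.inl z.fst + TrivSqZeroExt.inr e, TrivSqZeroExt.ext (by simp [hπf]) (by simp [hπs, he])⟩
  have hsq : RingHom.ker π ^ 2 = ⊥ := by
    rw [pow_two, eq_bot_iff, Ideal.mul_le]
    intro r hr s hs
    have h1 : r.fst = 0 := by rw [← hπf, RingHom.mem_ker.1 hr]; rfl
    have h2 : s.fst = 0 := by rw [← hπf, RingHom.mem_ker.1 hs]; rfl
    rw [Submodule.mem_bot]
    exact TrivSqZeroExt.ext (by simp [h1]) (by simp [h1, h2])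
  have hsmul : ∀ (b : B) (e : E'), Ideal.Quotient.mk L b • e = b • e := fun b e => algebraMap_smul (B ⧸ L) b e
  let ψ : B →ₐ[A] TrivSqZeroExt (B ⧸ L) E' :=
    { toFun := fun b => TrivSqZeroExt.inl (Ideal.Quotient.mk L b) + TrivSqZeroExt.inr (d' b)
      map_one' := TrivSqZeroExt.ext (by simp) (by simp)
      map_mul' := fun x y => TrivSqZeroExt.ext (by simp) (by simp [hsmul, add_comm])
      map_zero' := TrivSqZeroExt.ext (by simp) (by simp)
      map_add' := fun x y => TrivSqZeroExt.ext (by simp) (by simp)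
      commutes' := fun a => TrivSqZeroExt.ext (by simp [← IsScalarTower.algebraMap_apply A B]; rfl)
        (by simp [TrivSqZeroExt.algebraMap_eq_inl']) }
  let e := Ideal.quotientKerAlgEquivOfSurjective (f := π) hπsurj
  have hψ : ∃ j : ℕ, ∀ x ∈ I ^ j, (e.symm.toAlgHom.comp ψ) x = 0 := by
    refine ⟨k + k, fun x hx => ?_⟩
    rw [pow_add] at hx
    have h0 : ψ x = 0 := by
      refine Submodule.mul_induction_on hx (fun a ha b hb => ?_) (fun a b ha hb => by rw [map_add, ha, hb, add_zero])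
      refine TrivSqZeroExt.ext ?_ ?_
      · simp [ψ, Ideal.Quotient.eq_zero_iff_mem.2 (hL ha)]
      · simp [ψ, hE' _ (hL ha), hE' _ (hL hb)]
    show e.symm (ψ x) = 0
    rw [h0, map_zero]
  obtain ⟨χ, hχ⟩ := hB _ (RingHom.ker π) hsq _ hψ
  have hπχ : ∀ b, π (χ b) = ψ b := fun b => by
    have h1 : e.symm (ψ b) = Ideal.Quotient.mk _ (χ b) := (AlgHom.congr_fun hχ b).symm
    rw [AlgEquiv.symm_apply_eq] at h1
    exact h1.symm
  have hfst : ∀ b, (χ b).fst = Ideal.Quotient.mk L b := fun b => by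
    rw [← hπf, hπχ]; simp [ψ]
  let d₀ : B →ₗ[A] E :=
    { toFun := fun b => (χ b).snd
      map_add' := fun x y => by simp
      map_smul' := fun a x => by simp }
  refine ⟨Derivation.mk' d₀ fun x y => ?_, fun b => ?_⟩
  · show (χ (x * y)).snd = x • (χ y).snd + y • (χ x).snd
    rw [map_mul, TrivSqZeroExt.snd_mul, hfst, hfst, op_smul_eq_smul]
    congr 1
  · show f (χ b).snd = d' b
    rw [← hπs, hπχ]; simp [ψ]

theorem adic_ideal_criterion [IsNoetherianRing B] (I J : Ideal B) (hB : CAlgX.IsAdicFormallySmooth A B I)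
    (Q : Ideal (B ⧸ J)) (hQ : ∃ n : ℕ, (I.map (Ideal.Quotient.mk J)) ^ n ≤ Q)
    (hQ' : ∃ m : ℕ, Q ^ m ≤ I.map (Ideal.Quotient.mk J)) :
    CAlgX.IsAdicFormallySmooth A (B ⧸ J) (I.map (Ideal.Quotient.mk J)) ↔
      ∃ g : ((B ⧸ J) ⧸ Q) ⊗[B] ((B ⧸ J) ⊗[B] Ω[B⁄A]) →ₗ[(B ⧸ J) ⧸ Q]
          ((B ⧸ J) ⧸ Q) ⊗[B] (RingHom.ker (algebraMap B (B ⧸ J))).Cotangent,
        g ∘ₗ LinearMap.baseChange ((B ⧸ J) ⧸ Q) (KaehlerDifferential.kerCotangentToTensor A B (B ⧸ J)) =
          LinearMap.id := by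
  classical
  obtain ⟨n, hn⟩ := hQ
  obtain ⟨m, hm⟩ := hQ'
  set J' := RingHom.ker (algebraMap B (B ⧸ J)) with hJ'
  have hJJ : J' = J := Ideal.mk_ker
  let P₀ : Ideal B := Q.comap (Ideal.Quotient.mk J)
  have hJP : J' ≤ P₀ := fun a ha => by
    show Ideal.Quotient.mk J a ∈ Q
    rw [show Ideal.Quotient.mk J a = 0 from ha]; exact Q.zero_mem
  have hIP : I ^ n ≤ P₀ := fun a ha => hn (by rw [← Ideal.map_pow]; exact Ideal.mem_map_of_mem _ ha)
  have hzero : ∀ a ∈ P₀, algebraMap B ((B ⧸ J) ⧸ Q) a = 0 := fun a ha => Ideal.Quotient.eq_zero_iff_mem.2 ha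
  have hkill : ∀ a ∈ P₀, ∀ z : ((B ⧸ J) ⧸ Q) ⊗[B] J'.Cotangent, a • z = 0 := fun a ha z => by
    rw [← algebraMap_smul ((B ⧸ J) ⧸ Q) a z, hzero a ha]; exact zero_smul ((B ⧸ J) ⧸ Q) z
  constructor
  · intro hC
    obtain ⟨c, hc⟩ := Ideal.exists_pow_inf_eq_pow_smul I (M := B) (N := J')
    let k := n + c
    have hcap : ∀ x, x ∈ J' → x ∈ I ^ k → x ∈ P₀ * J' := by
      intro x hx hxk
      have h1 : x ∈ I ^ (k - c) • (I ^ c • (⊤ : Submodule B B) ⊓ J') := by
        rw [← hc k (by omega)]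
        exact ⟨by simpa using hxk, hx⟩
      exact Ideal.mul_mono ((Ideal.pow_le_pow_right (by omega : n ≤ k - c)).trans hIP) inf_le_right h1
    let K : Ideal B := P₀ * J' ⊔ I ^ k
    let N : Ideal (B ⧸ K) := J'.map (Ideal.Quotient.mk K)
    have hN : N ^ 2 = ⊥ := by
      rw [pow_two, ← Ideal.map_mul, Ideal.map_eq_bot_iff_le_ker, Ideal.mk_ker]
      exact (Ideal.mul_mono_left hJP).trans le_sup_left
    let π : B →ₐ[A] B ⧸ K := Ideal.Quotient.mkₐ A K
    let ψ : (B ⧸ J) →ₐ[A] (B ⧸ K) ⧸ N := Ideal.Quotient.liftₐ J ((Ideal.Quotient.mkₐ A N).comp π)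
      fun a ha => Ideal.Quotient.eq_zero_iff_mem.2 (Ideal.mem_map_of_mem _ (hJJ ▸ ha))
    obtain ⟨χ, hχ⟩ := hC (B ⧸ K) N hN ψ ⟨k, fun z hz => by
      rw [← Ideal.map_pow, Ideal.mem_map_iff_of_surjective _ Ideal.Quotient.mk_surjective] at hz
      obtain ⟨a, ha, rfl⟩ := hz
      show Ideal.Quotient.mk N (Ideal.Quotient.mk K a) = 0
      rw [Ideal.Quotient.eq_zero_iff_mem.2 (Submodule.mem_sup_right ha : a ∈ K), map_zero]⟩
    have hex : ∀ b : B, ∃ j : J', Ideal.Quotient.mk K (j : B) = π b - χ (Ideal.Quotient.mk J b) := by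
      intro b
      have h1 : π b - χ (Ideal.Quotient.mk J b) ∈ N := by
        rw [← Ideal.Quotient.eq_zero_iff_mem, map_sub, sub_eq_zero]
        exact (AlgHom.congr_fun hχ (Ideal.Quotient.mk J b)).symm
      obtain ⟨j, hj, hjb⟩ := (Ideal.mem_map_iff_of_surjective _ Ideal.Quotient.mk_surjective).1 h1
      exact ⟨⟨j, hj⟩, hjb⟩
    choose j hj using hex
    let τ : J' →ₗ[B] ((B ⧸ J) ⧸ Q) ⊗[B] J'.Cotangent :=
      (TensorProduct.mk B ((B ⧸ J) ⧸ Q) J'.Cotangent 1) ∘ₗ J'.toCotangent
    have hτ : ∀ x : J', (x : B) ∈ P₀ * J' → τ x = 0 := by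
      intro x hx
      obtain ⟨hx', h0⟩ : ∃ hx' : (x : B) ∈ J', τ ⟨x, hx'⟩ = 0 := by
        refine Submodule.mul_induction_on hx (fun a ha y hy => ⟨J'.mul_mem_left a hy, ?_⟩) (fun a b ⟨ha, h1⟩ ⟨hb, h2⟩ => ⟨add_mem ha hb, ?_⟩)
        · rw [show (⟨a * y, J'.mul_mem_left a hy⟩ : J') = a • ⟨y, hy⟩ from Subtype.ext rfl, map_smul, hkill a ha]
        · rw [show (⟨a + b, add_mem ha hb⟩ : J') = ⟨a, ha⟩ + ⟨b, hb⟩ from rfl, map_add, h1, h2, add_zero]
      exact h0
    have huniq : ∀ x y : J', Ideal.Quotient.mk K (x : B) = Ideal.Quotient.mk K (y : B) → τ x = τ y := by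
      intro x y hxy
      rw [← sub_eq_zero, ← map_sub]
      apply hτ
      have h1 := Ideal.Quotient.eq.1 hxy
      obtain ⟨p, hp, q, hq, hpq⟩ := Submodule.mem_sup.1 h1
      have hqJ : q ∈ J' := by
        rw [show q = ((x : B) - y) - p by rw [← hpq]; ring]
        exact sub_mem (sub_mem x.2 y.2) (Ideal.mul_le_right hp)
      rw [Submodule.coe_sub, ← hpq]
      exact add_mem hp (hcap q hqJ hq)
    let d₀ : B →ₗ[A] ((B ⧸ J) ⧸ Q) ⊗[B] J'.Cotangent :=
      { toFun := fun b => τ (j b)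
        map_add' := fun x y => by
          rw [← map_add]; apply huniq
          rw [Submodule.coe_add, map_add (Ideal.Quotient.mk K), hj, hj, hj, map_add, map_add, map_add]; ring
        map_smul' := fun a x => by
          rw [RingHom.id_apply, ← algebraMap_smul B a (τ (j x)), ← map_smul]; apply huniq
          rw [SetLike.val_smul, smul_eq_mul, map_mul, hj, hj, Algebra.smul_def]
          have e1 : π (algebraMap A B a) = Ideal.Quotient.mk K (algebraMap A B a) := rfl
          have e2 : χ (Ideal.Quotient.mk J (algebraMap A B a)) = Ideal.Quotient.mk K (algebraMap A B a) :=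
            χ.commutes a
          rw [map_mul π, e1, map_mul (Ideal.Quotient.mk J), map_mul χ, e2]
          ring }
    let d : Derivation A B (((B ⧸ J) ⧸ Q) ⊗[B] J'.Cotangent) := Derivation.mk' d₀ fun x y => by
      show τ (j (x * y)) = x • τ (j y) + y • τ (j x)
      rw [← map_smul, ← map_smul, ← map_add]
      apply huniq
      rw [Submodule.coe_add, SetLike.val_smul, SetLike.val_smul, smul_eq_mul, smul_eq_mul, map_add, map_mul, map_mul,
        hj, hj, hj, map_mul, map_mul, map_mul]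
      have h0 : (π x - χ (Ideal.Quotient.mk J x)) * (π y - χ (Ideal.Quotient.mk J y)) = 0 := by
        rw [← hj, ← hj, ← map_mul, Ideal.Quotient.eq_zero_iff_mem]
        exact Submodule.mem_sup_left (Ideal.mul_mem_mul (hJP (j x).2) (j y).2)
      show π x * π y - _ = π x * (π y - _) + π y * (π x - _)
      linear_combination -h0
    refine ⟨LinearMap.liftBaseChange _ ((LinearMap.liftBaseChange (B ⧸ J) d.liftKaehlerDifferential).restrictScalars B), ?_⟩
    refine LinearMap.ext fun z => ?_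
    induction z using TensorProduct.induction_on with
    | zero => simp
    | add u v hu hv => rw [map_add, map_add, hu, hv]
    | tmul a w =>
      obtain ⟨⟨x, hx⟩, rfl⟩ := J'.toCotangent_surjective w
      rw [LinearMap.comp_apply, LinearMap.baseChange_tmul, LinearMap.id_apply, kerCotangentToTensor_toCotangent,
        LinearMap.liftBaseChange_tmul, LinearMap.restrictScalars_apply, LinearMap.liftBaseChange_tmul, one_smul,
        Derivation.liftKaehlerDifferential_comp_D]
      show a • τ (j x) = _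
      rw [huniq (j x) ⟨x, hx⟩ (by
        rw [hj, show Ideal.Quotient.mk J x = 0 from hx, map_zero, sub_zero]; rfl)]
      show a • ((1 : (B ⧸ J) ⧸ Q) ⊗ₜ[B] J'.toCotangent ⟨x, hx⟩) = _
      rw [TensorProduct.smul_tmul', smul_eq_mul, mul_one]
  · rintro ⟨g, hg⟩ T _ _ N hN ψ ⟨k, hk⟩
    obtain ⟨χ, hχ⟩ := hB T N hN (ψ.comp (Ideal.Quotient.mkₐ A J)) ⟨k, fun x hx => hk _ (by
      rw [← Ideal.map_pow]; exact Ideal.mem_map_of_mem _ hx)⟩
    have hχ' : ∀ b, Ideal.Quotient.mk N (χ b) = ψ (Ideal.Quotient.mk J b) := fun b => AlgHom.congr_fun hχ b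
    letI : Algebra B T := χ.toRingHom.toAlgebra
    haveI : IsScalarTower A B T := IsScalarTower.of_algHom χ
    have hNN : ∀ x ∈ N, ∀ y ∈ N, x * y = 0 := fun x hx y hy => by
      have := Ideal.mul_mem_mul hx hy
      rwa [← pow_two, hN, Submodule.mem_bot] at this
    have hsm : ∀ (b : B) (e : N), ((b • e : N) : T) = χ b * (e : T) := fun b e => by
      rw [SetLike.val_smul_of_tower, Algebra.smul_def]; rfl
    have hker : ∀ b, ψ (Ideal.Quotient.mk J b) = 0 → ∀ e : N, b • e = 0 := fun b hb e => by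
      apply Subtype.ext
      rw [hsm]
      exact hNN _ (Ideal.Quotient.eq_zero_iff_mem.1 ((hχ' b).trans hb)) _ e.2
    have hJN : ∀ x ∈ J', χ x ∈ N := fun x hx => by
      rw [← Ideal.Quotient.eq_zero_iff_mem, hχ', show Ideal.Quotient.mk J x = 0 from hx, map_zero]
    let L : Ideal B := P₀ ^ (m * k) ⊔ (I ^ k ⊔ J')
    have hLk : ∀ b ∈ L, ∀ e : N, b • e = 0 := by
      refine fun b hb => hker b ?_
      obtain ⟨p, hp, q, hq, rfl⟩ := Submodule.mem_sup.1 hb
      obtain ⟨i, hi, i', hi', rfl⟩ := Submodule.mem_sup.1 hq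
      rw [map_add (Ideal.Quotient.mk J), map_add (Ideal.Quotient.mk J), show Ideal.Quotient.mk J i' = 0 from hi', add_zero, map_add,
        hk (Ideal.Quotient.mk J i) (by rw [← Ideal.map_pow]; exact Ideal.mem_map_of_mem _ hi), add_zero]
      refine hk _ ?_
      have h1 : Ideal.Quotient.mk J p ∈ Q ^ (m * k) := by
        have := Ideal.mem_map_of_mem (Ideal.Quotient.mk J) hp
        rw [Ideal.map_pow] at this
        exact Ideal.pow_right_mono Ideal.map_comap_le _ this
      rw [pow_mul] at h1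
      exact Ideal.pow_right_mono hm _ h1
    have hJkill : ∀ x ∈ J', ∀ e : N, x • e = 0 := fun x hx =>
      hLk x (Submodule.mem_sup_right (Submodule.mem_sup_right hx))
    have hstep : ∀ i : ℕ, ∃ d : Derivation A B N, ∀ x (hx : x ∈ J'),
        (⟨χ x, hJN x hx⟩ : N) - d x ∈ P₀ ^ i • (⊤ : Submodule B N) := by
      intro i
      induction i with
      | zero => exact ⟨0, fun x hx => by rw [pow_zero, Ideal.one_eq_top, Submodule.top_smul]; exact Submodule.mem_top⟩
      | succ i ih =>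
        obtain ⟨d, hd⟩ := ih
        let E : Submodule B N := P₀ ^ i • (⊤ : Submodule B N)
        let f : E →ₗ[B] E ⧸ (P₀ • (⊤ : Submodule B E)) := Submodule.mkQ _
        let v₀ : J' →ₗ[B] E :=
          LinearMap.codRestrict E
            { toFun := fun x => (⟨χ x, hJN x x.2⟩ : N) - d x
              map_add' := fun x y => by
                show (⟨χ ((x : B) + y), _⟩ : N) - d ((x : B) + y) = _
                rw [map_add d, show (⟨χ ((x : B) + y), hJN _ (x + y).2⟩ : N) = ⟨χ x, hJN x x.2⟩ + ⟨χ y, hJN y y.2⟩ from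
                  Subtype.ext (map_add χ _ _)]
                abel
              map_smul' := fun b x => by
                show (⟨χ (b * (x : B)), _⟩ : N) - d (b * (x : B)) = b • ((⟨χ x, _⟩ : N) - d x)
                rw [smul_sub, Derivation.leibniz,
                  hJkill _ x.2, add_zero]
                congr 1
                exact Subtype.ext (by rw [hsm]; exact map_mul χ _ _) }
            (fun x => hd x x.2)
        let v : J'.Cotangent →ₗ[B] E := Submodule.liftQ _ v₀ (Submodule.smul_le.2 fun a ha x _ => by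
          rw [LinearMap.mem_ker, map_smul]
          exact Subtype.ext (hJkill a ha _))
        let θ : (B ⧸ P₀) ≃ₐ[B] (B ⧸ J) ⧸ Q :=
          (Ideal.quotientEquivAlgOfEq B (by
            ext b; rw [RingHom.mem_ker]; exact (Ideal.Quotient.eq_zero_iff_mem.symm :
              Ideal.Quotient.mk J b ∈ Q ↔ Ideal.Quotient.mk Q (Ideal.Quotient.mk J b) = 0) :
              P₀ = RingHom.ker (Algebra.ofId B ((B ⧸ J) ⧸ Q)))).trans
            (Ideal.quotientKerAlgEquivOfSurjective (f := Algebra.ofId B ((B ⧸ J) ⧸ Q))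
              (Ideal.Quotient.mk_surjective.comp Ideal.Quotient.mk_surjective))
        let vbar : ((B ⧸ J) ⧸ Q) ⊗[B] J'.Cotangent →ₗ[B] E ⧸ (P₀ • (⊤ : Submodule B E)) :=
          (Submodule.liftQ _ (f ∘ₗ v) (Submodule.smul_le.2 fun a ha z _ => by
            rw [LinearMap.mem_ker, map_smul]
            show a • Submodule.Quotient.mk (v z) = 0
            rw [← Submodule.Quotient.mk_smul, Submodule.Quotient.mk_eq_zero]
            exact Submodule.smul_mem_smul ha Submodule.mem_top)) ∘ₗ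
            (quotTensorEquivQuotSMul J'.Cotangent P₀).toLinearMap ∘ₗ
              (TensorProduct.congr θ.toLinearEquiv.symm (LinearEquiv.refl B J'.Cotangent)).toLinearMap
        let Φ₀ : Ω[B⁄A] →ₗ[B] ((B ⧸ J) ⧸ Q) ⊗[B] J'.Cotangent :=
          (g.restrictScalars B) ∘ₗ (TensorProduct.mk B _ _ 1) ∘ₗ (TensorProduct.mk B (B ⧸ J) Ω[B⁄A] 1)
        obtain ⟨d'', hd''⟩ := exists_lift_derivation hB (L := L) (k := k)
          (le_trans le_sup_left le_sup_right) (fun a ha e => Subtype.ext (by rw [Submodule.coe_smul, Submodule.coe_zero]; exact hLk a ha _)) f (Submodule.mkQ_surjective _)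
          ((vbar ∘ₗ Φ₀).compDer (D A B))
        let incl : Derivation A B N := E.subtype.compDer d''
        refine ⟨d + incl, fun x hx => ?_⟩
        have h1 : Φ₀ (D A B x) = (1 : (B ⧸ J) ⧸ Q) ⊗ₜ[B] J'.toCotangent ⟨x, hx⟩ := by
          have := LinearMap.congr_fun hg ((1 : (B ⧸ J) ⧸ Q) ⊗ₜ[B] J'.toCotangent ⟨x, hx⟩)
          rwa [LinearMap.comp_apply, LinearMap.baseChange_tmul, kerCotangentToTensor_toCotangent] at this
        have h2 : f (d'' x) = f (v (J'.toCotangent ⟨x, hx⟩)) := by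
          rw [hd'']
          show vbar (Φ₀ (D A B x)) = _
          rw [h1]
          simp only [vbar, LinearMap.comp_apply, LinearEquiv.coe_coe, TensorProduct.congr_tmul, LinearEquiv.refl_apply]
          rw [show θ.toLinearEquiv.symm 1 = 1 from map_one θ.symm, quotTensorEquivQuotSMul_mk_one_tmul,
            Submodule.liftQ_apply]
          rfl
        have h3 := Submodule.mem_map_of_mem (f := E.subtype) ((Submodule.Quotient.eq _).1 h2.symm)
        rw [Submodule.map_smul'', Submodule.map_top, Submodule.range_subtype, map_sub] at h3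
        rw [pow_succ', ← smul_eq_mul, Submodule.smul_assoc]
        show _ - (d x + ((d'' x : E) : N)) ∈ _
        rw [← sub_sub]
        exact h3
    obtain ⟨d, hd⟩ := hstep (m * k)
    have hd0 : ∀ x (hx : x ∈ J'), (d x : T) = χ x := fun x hx => by
      have h1 : ∀ z ∈ P₀ ^ (m * k) • (⊤ : Submodule B N), z = 0 := fun z hz => by
        refine Submodule.smul_induction_on hz (fun a ha e _ => hLk a (Submodule.mem_sup_left ha) e) (fun a b ha hb => by rw [ha, hb, add_zero])
      have h2 := h1 _ (hd x hx)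
      rw [sub_eq_zero] at h2
      exact (congrArg Subtype.val h2).symm
    let χ' : B →ₐ[A] T :=
      AlgHom.ofLinearMap (χ.toLinearMap - ((N.subtype.restrictScalars A) ∘ₗ d.toLinearMap))
        (by show χ 1 - ((d 1 : N) : T) = 1; rw [Derivation.map_one_eq_zero, map_one]; simp)
        (fun x y => by
          show χ (x * y) - ((d (x * y) : N) : T) = (χ x - (d x : T)) * (χ y - (d y : T))
          rw [Derivation.leibniz, Submodule.coe_add, hsm, hsm, map_mul]
          have := hNN _ (d x).2 _ (d y).2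
          linear_combination -this)
    refine ⟨Ideal.Quotient.liftₐ J χ' fun a ha => ?_, AlgHom.ext fun z => ?_⟩
    · show χ a - (d a : T) = 0
      rw [hd0 a (hJJ.symm ▸ ha), sub_self]
    · obtain ⟨b, rfl⟩ := Ideal.Quotient.mk_surjective z
      show Ideal.Quotient.mk N (χ b - (d b : T)) = ψ (Ideal.Quotient.mk J b)
      rw [map_sub, Ideal.Quotient.eq_zero_iff_mem.2 (d b).2, sub_zero, hχ']

end Groth.Agent.JacobianLib
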