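import Mathlib
import Groth.Agent.JacobianLib.Split

/-!
Jacobian criterion at a prime for quotients of formally smooth algebras, with no finiteness on the algebras.
-/

set_option autoImplicit false
universe u
open IsLocalRing TensorProduct KaehlerDifferential

namespace Groth.Agent.JacobianLib

variable {A B C : Type u} [CommRing A] [CommRing B] [CommRing C] [Algebra A B] [Algebra B C] [Algebra A C]
  [IsScalarTower A B C]

/-- A retraction up to a unit of a localization gives formal smoothness there. -/
theorem fs_of_retract_loc [Algebra.FormallySmooth A B] (M : Submonoid B) {B' S : Type u} [CommRing B'] [Algebra B B']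
    [IsLocalization M B'] [Algebra A B'] [IsScalarTower A B B'] [CommRing S] [Algebra A S] [Algebra B' S]
    [IsScalarTower A B' S] (hsurj : Function.Surjective (algebraMap B' S)) (J : Ideal B)
    (hker : RingHom.ker (algebraMap B' S) = J.map (algebraMap B B')) (s : B) (hs : IsUnit (algebraMap B B' s))
    (hsJ : s ∈ retractIdeal A J) : Algebra.FormallySmooth A S := by
  haveI : Algebra.FormallyEtale B B' := Algebra.FormallyEtale.of_isLocalization M
  haveI : Algebra.FormallySmooth A B' := Algebra.FormallySmooth.comp A B B'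
  set J' := RingHom.ker (algebraMap B' S) with hJ'
  have hbc := KaehlerDifferential.isBaseChange_of_formallyEtale A B B'
  obtain ⟨Φ, hΦ⟩ := hsJ
  have hle : J ≤ J'.comap (Algebra.ofId B B') := fun x hx => hker.ge (Ideal.mem_map_of_mem _ hx)
  let l := Ideal.mapCotangent J J' (Algebra.ofId B B') hle
  let u : B'ˣ := hs.unit
  have hu : ((u⁻¹ : B'ˣ) : B') * algebraMap B B' s = 1 := u.inv_mul
  let Ψ : Ω[B'⁄A] →ₗ[B'] J'.Cotangent := ((u⁻¹ : B'ˣ) : B') • hbc.lift (l ∘ₗ Φ)
  refine formallySmooth_of_retraction hsurj Ψ fun x hx => ?_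
  obtain ⟨⟨⟨a, ha⟩, t⟩, hat⟩ := (IsLocalization.mem_map_algebraMap_iff M B').1 (hker.le hx)
  have hta : algebraMap B B' (t : B) * x = algebraMap B B' a := by rw [mul_comm]; exact hat
  have hl : l (J.toCotangent ⟨a, ha⟩) = J'.toCotangent ⟨algebraMap B B' a, hle ha⟩ := rfl
  have hΨa : Ψ (D A B' (algebraMap B B' a)) = J'.toCotangent ⟨algebraMap B B' a, hle ha⟩ := by
    rw [← KaehlerDifferential.map_D A A B B' a, LinearMap.smul_apply, IsBaseChange.lift_eq, LinearMap.comp_apply,
      hΦ a ha, map_smul, hl, ← algebraMap_smul B' s, smul_smul, hu, one_smul]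
  have h1 : algebraMap B B' (t : B) • Ψ (D A B' x) = algebraMap B B' (t : B) • J'.toCotangent ⟨x, hx⟩ := by
    have h2 : D A B' (algebraMap B B' a) =
        algebraMap B B' (t : B) • D A B' x + x • D A B' (algebraMap B B' t) := by
      rw [← hta, Derivation.leibniz]
    have h3 := congrArg Ψ h2
    rw [map_add, map_smul, map_smul, smul_cotangent_eq_zero hx, add_zero, hΨa] at h3
    rw [← h3, ← map_smul]
    exact congrArg _ (Subtype.ext hta.symm)
  exact (IsUnit.smul_left_cancel (IsLocalization.map_units B' t)).1 h1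

theorem fs_away [Algebra.FormallySmooth A B] (hsurj : Function.Surjective (algebraMap B C)) (f : B)
    (hf : f ∈ retractIdeal A (RingHom.ker (algebraMap B C))) :
    Algebra.FormallySmooth A (Localization.Away (algebraMap B C f)) := by
  have hmap : (Submonoid.powers f).map (algebraMap B C) = Submonoid.powers (algebraMap B C f) :=
    Submonoid.map_powers _ _
  let φ : Localization.Away f →+* Localization.Away (algebraMap B C f) :=
    IsLocalization.map _ (algebraMap B C) (hmap ▸ Submonoid.le_comap_map _)
  algebraize [φ]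
  haveI : IsScalarTower A (Localization.Away f) (Localization.Away (algebraMap B C f)) :=
    IsScalarTower.of_algebraMap_eq fun a => by
      show _ = φ _
      rw [IsScalarTower.algebraMap_apply A B (Localization.Away f), IsLocalization.map_eq,
        ← IsScalarTower.algebraMap_apply A B C, ← IsScalarTower.algebraMap_apply]
  refine fs_of_retract_loc (Submonoid.powers f) (B' := Localization.Away f) ?_ (RingHom.ker (algebraMap B C)) ?_ f
    (IsLocalization.map_units _ ⟨f, Submonoid.mem_powers f⟩) hf
  · intro z
    obtain ⟨c, ⟨m, hm⟩, rfl⟩ := IsLocalization.exists_mk'_eq (Submonoid.powers (algebraMap B C f)) z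
    obtain ⟨b, rfl⟩ := hsurj c
    obtain ⟨n, rfl⟩ := hm
    refine ⟨IsLocalization.mk' _ b (⟨f ^ n, n, rfl⟩ : Submonoid.powers f), ?_⟩
    show φ _ = _
    rw [IsLocalization.map_mk']
    congr 1
    exact Subtype.ext (map_pow _ _ _)
  · exact IsLocalization.ker_map (S := Localization.Away f) (Localization.Away (algebraMap B C f)) (algebraMap B C) hmap

theorem fs_atPrime (p : Ideal C) [p.IsPrime] (f : C) (hf : f ∉ p)
    (h : Algebra.FormallySmooth A (Localization.Away f)) : Algebra.FormallySmooth A (Localization.AtPrime p) := by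
  letI : Algebra (Localization.Away f) (Localization.AtPrime p) :=
    (IsLocalization.Away.lift f (g := algebraMap C (Localization.AtPrime p))
      (IsLocalization.map_units _ (⟨f, hf⟩ : p.primeCompl))).toAlgebra
  haveI : IsScalarTower C (Localization.Away f) (Localization.AtPrime p) :=
    IsScalarTower.of_algebraMap_eq' (IsLocalization.Away.lift_comp f _).symm
  haveI : IsScalarTower A (Localization.Away f) (Localization.AtPrime p) :=
    IsScalarTower.of_algebraMap_eq fun a => by
      rw [IsScalarTower.algebraMap_apply A C (Localization.Away f), ← IsScalarTower.algebraMap_apply C,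
        ← IsScalarTower.algebraMap_apply]
  haveI : IsLocalization (p.primeCompl.map (algebraMap C (Localization.Away f))) (Localization.AtPrime p) :=
    IsLocalization.isLocalization_of_submonoid_le (Localization.Away f) (Localization.AtPrime p)
      (Submonoid.powers f) p.primeCompl (Submonoid.powers_le.2 hf)
  haveI : Algebra.FormallySmooth (Localization.Away f) (Localization.AtPrime p) :=
    Algebra.FormallySmooth.of_isLocalization (p.primeCompl.map (algebraMap C (Localization.Away f)))
  exact Algebra.FormallySmooth.comp A (Localization.Away f) (Localization.AtPrime p)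

theorem not_le_iff_atPrime [Algebra.FormallySmooth A B] (hsurj : Function.Surjective (algebraMap B C))
    [Module.Finite B (RingHom.ker (algebraMap B C)).Cotangent] (p : Ideal C) [p.IsPrime] :
    ¬ retractIdeal A (RingHom.ker (algebraMap B C)) ≤ p.comap (algebraMap B C) ↔
      Algebra.FormallySmooth A (Localization.AtPrime p) := by
  let q := p.comap (algebraMap B C)
  have hmap : q.primeCompl.map (algebraMap B C) = p.primeCompl := by
    ext c
    refine ⟨fun ⟨b, hb, h⟩ => h ▸ hb, fun hc => ?_⟩
    obtain ⟨b, rfl⟩ := hsurj c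
    exact ⟨b, hc, rfl⟩
  let φ : Localization.AtPrime q →+* Localization.AtPrime p :=
    IsLocalization.map _ (algebraMap B C) (hmap ▸ Submonoid.le_comap_map _)
  algebraize [φ]
  haveI : IsScalarTower A (Localization.AtPrime q) (Localization.AtPrime p) :=
    IsScalarTower.of_algebraMap_eq fun a => by
      show _ = φ _
      rw [IsScalarTower.algebraMap_apply A B (Localization.AtPrime q), IsLocalization.map_eq,
        ← IsScalarTower.algebraMap_apply A B C, ← IsScalarTower.algebraMap_apply]
  refine retractIdeal_not_le_iff (RingHom.ker (algebraMap B C)) q ?_ ?_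
  · intro z
    obtain ⟨c, ⟨m, hm⟩, rfl⟩ := IsLocalization.exists_mk'_eq p.primeCompl z
    obtain ⟨b, rfl⟩ := hsurj c
    obtain ⟨b', rfl⟩ := hsurj m
    refine ⟨IsLocalization.mk' _ b (⟨b', hm⟩ : q.primeCompl), ?_⟩
    show φ _ = _
    rw [IsLocalization.map_mk']
  · exact IsLocalization.ker_map (S := Localization.AtPrime q) (Localization.AtPrime p) (algebraMap B C) hmap

theorem injective_of_retract [Algebra.FormallySmooth A B] (hsurj : Function.Surjective (algebraMap B C))
    (p : Ideal C) [p.IsPrime] (s : B) (hs : s ∈ retractIdeal A (RingHom.ker (algebraMap B C)))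
    (hsp : s ∉ p.comap (algebraMap B C)) :
    Function.Injective ((kerCotangentToTensor A B C).lTensor p.ResidueField) := by
  obtain ⟨Φ, hΦ⟩ := hs
  let I := RingHom.ker (algebraMap B C)
  let θ : (B ⧸ I) ≃ₐ[B] C := Ideal.quotientKerAlgEquivOfSurjective (f := Algebra.ofId B C) hsurj
  have hker : I • (⊤ : Submodule B Ω[B⁄A]) ≤ LinearMap.ker Φ :=
    Submodule.smul_le.2 fun a ha z _ => by rw [LinearMap.mem_ker, map_smul, smul_cotangent_eq_zero ha]
  let l : C ⊗[B] Ω[B⁄A] →ₗ[B] I.Cotangent :=
    (Submodule.liftQ _ Φ hker) ∘ₗ (quotTensorEquivQuotSMul Ω[B⁄A] I).toLinearMap ∘ₗ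
      (TensorProduct.congr θ.toLinearEquiv.symm (LinearEquiv.refl B Ω[B⁄A])).toLinearMap
  have hl : l ∘ₗ kerCotangentToTensor A B C = s • LinearMap.id := by
    refine LinearMap.ext fun z => ?_
    obtain ⟨⟨x, hx⟩, rfl⟩ := I.toCotangent_surjective z
    rw [LinearMap.comp_apply, kerCotangentToTensor_toCotangent, LinearMap.smul_apply, LinearMap.id_apply]
    simp only [l, LinearMap.comp_apply, LinearEquiv.coe_coe, TensorProduct.congr_tmul, LinearEquiv.refl_apply]
    rw [show θ.toLinearEquiv.symm 1 = 1 from map_one θ.symm, quotTensorEquivQuotSMul_mk_one_tmul,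
      Submodule.liftQ_apply]
    exact hΦ x hx
  have hu : algebraMap B p.ResidueField s ≠ 0 := fun h0 => hsp (by
    rw [IsScalarTower.algebraMap_apply B C p.ResidueField] at h0
    exact (Ideal.algebraMap_residueField_eq_zero (I := p)).1 h0)
  rw [injective_iff_map_eq_zero]
  intro z hz
  have h1 := congrArg (fun g => LinearMap.lTensor p.ResidueField g z) hl
  simp only [LinearMap.lTensor_comp, LinearMap.comp_apply] at h1
  rw [hz, map_zero, LinearMap.lTensor_smul, LinearMap.smul_apply, LinearMap.lTensor_id, LinearMap.id_apply,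
    ← algebraMap_smul p.ResidueField s z] at h1
  exact (smul_eq_zero.1 h1.symm).resolve_left hu

set_option maxHeartbeats 200000 in
theorem exists_notMem_smul_eq_zero (q : Ideal B) [q.IsPrime] (K : Type u) [Field K] [Algebra B K]
    (hK : RingHom.ker (algebraMap B K) = q) (M : Type u) [AddCommGroup M] [Module B M] [Module.Finite B M]
    (h : Subsingleton (K ⊗[B] M)) : ∃ t : B, t ∉ q ∧ ∀ m : M, t • m = 0 := by
  letI : Algebra q.ResidueField K := (Ideal.ResidueField.lift q (algebraMap B K) hK.ge
    (fun b hb => by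
      rw [Submonoid.mem_comap, IsUnit.mem_submonoid_iff]
      exact isUnit_iff_ne_zero.2 fun h0 => hb (hK.le h0))).toAlgebra
  haveI : IsScalarTower B q.ResidueField K := IsScalarTower.of_algebraMap_eq fun b =>
    (Ideal.ResidueField.lift_algebraMap q _ _ _ b).symm
  haveI : Subsingleton (K ⊗[q.ResidueField] (q.ResidueField ⊗[B] M)) :=
    (TensorProduct.AlgebraTensorModule.cancelBaseChange B q.ResidueField K K M).toEquiv.subsingleton
  haveI h0 : Subsingleton (q.ResidueField ⊗[B] M) :=
    Module.FaithfullyFlat.lTensor_reflects_triviality q.ResidueField K _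
  by_contra hc
  have hsupp : (⟨q, inferInstance⟩ : PrimeSpectrum B) ∈ Module.support B M := by
    rw [Module.support_eq_zeroLocus, PrimeSpectrum.mem_zeroLocus]
    intro t ht
    by_contra htq
    exact hc ⟨t, htq, Module.mem_annihilator.1 ht⟩
  exact not_subsingleton_iff_nontrivial.2
    ((Module.mem_support_iff_nontrivial_residueField_tensorProduct (p := ⟨q, inferInstance⟩)).1 hsupp) h0

theorem not_le_of_injective [Algebra.FormallySmooth A B] (hsurj : Function.Surjective (algebraMap B C))
    [Module.Finite B (RingHom.ker (algebraMap B C)).Cotangent] (p : Ideal C) [p.IsPrime]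
    (h : Function.Injective ((kerCotangentToTensor A B C).lTensor p.ResidueField)) :
    ¬ retractIdeal A (RingHom.ker (algebraMap B C)) ≤ p.comap (algebraMap B C) := by
  classical
  set q := p.comap (algebraMap B C) with hq
  set J := RingHom.ker (algebraMap B C) with hJ
  let κ := p.ResidueField
  have hK : RingHom.ker (algebraMap B κ) = q := by
    ext b
    rw [RingHom.mem_ker, IsScalarTower.algebraMap_apply B C κ, Ideal.algebraMap_residueField_eq_zero]
    rfl
  obtain ⟨n, g, hg⟩ := Submodule.fg_iff_exists_fin_generating_family.1 (Module.Finite.fg_top (R := B) (M := J.Cotangent))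
  have hspan : Submodule.span κ (Set.range fun i => (1 : κ) ⊗ₜ[B] g i) = ⊤ := by
    rw [eq_top_iff, ← Submodule.baseChange_top (R := B) (A := κ) (M := J.Cotangent), ← hg, Submodule.baseChange_span]
    exact Submodule.span_mono (by rintro _ ⟨_, ⟨i, rfl⟩, rfl⟩; exact ⟨i, rfl⟩)
  obtain ⟨b, hbs, hbspan, hbli⟩ := exists_linearIndependent κ (Set.range fun i => (1 : κ) ⊗ₜ[B] g i)
  haveI : Finite b := Set.Finite.to_subtype ((Set.finite_range _).subset hbs)
  obtain ⟨m, ⟨e⟩⟩ := Finite.exists_equiv_fin b
  choose idx hidx using fun j : Fin m => hbs (e.symm j).2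
  choose y hy using fun j : Fin m => J.toCotangent_surjective (g (idx j))
  let f : Fin m → B := fun j => (y j : B)
  have hli : LinearIndependent κ fun j => (1 : κ) ⊗ₜ[B] J.toCotangent (y j) := by
    have := hbli.comp e.symm e.symm.injective
    have he : ((fun x : b => (x : κ ⊗[B] J.Cotangent)) ∘ e.symm) =
        fun j => (1 : κ) ⊗ₜ[B] J.toCotangent (y j) := by
      funext j
      simp only [Function.comp_apply, hy]
      exact (hidx j).symm
    exact he ▸ this
  have hind : ∀ c : Fin m → B, (∑ i, c i • D A B (f i)) ∈ q • (⊤ : Submodule B Ω[B⁄A]) → ∀ i, c i ∈ q := by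
    intro c hc i
    have hL : q • (⊤ : Submodule B Ω[B⁄A]) ≤
        LinearMap.ker (TensorProduct.mk B κ (C ⊗[B] Ω[B⁄A]) 1 ∘ₗ TensorProduct.mk B C Ω[B⁄A] 1) :=
      Submodule.smul_le.2 fun a ha w _ => by
        rw [LinearMap.mem_ker, map_smul, ← algebraMap_smul κ a, RingHom.mem_ker.1 (hK.ge ha), zero_smul]
    have h1 := hL hc
    rw [LinearMap.mem_ker, map_sum] at h1
    have h2 : (kerCotangentToTensor A B C).lTensor κ (∑ j, algebraMap B κ (c j) • ((1 : κ) ⊗ₜ[B] J.toCotangent (y j))) = 0 := by
      refine Eq.trans ?_ h1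
      rw [map_sum]
      refine Finset.sum_congr rfl fun j _ => ?_
      rw [algebraMap_smul, map_smul, map_smul, LinearMap.lTensor_tmul, kerCotangentToTensor_toCotangent]
      rfl
    have h3 := Fintype.linearIndependent_iff.1 hli _ (h (h2.trans (map_zero _).symm)) i
    exact hK.le h3
  obtain ⟨D', hdet⟩ := exists_derivations q f hind
  let M : Matrix (Fin m) (Fin m) B := Matrix.of fun i j => D' j (f i)
  let cl : Fin m → J.Cotangent := fun i => J.toCotangent (y i)
  let g' : Fin m → J.Cotangent := fun j => ∑ k, M.adjugate j k • cl k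
  let Φ : Ω[B⁄A] →ₗ[B] J.Cotangent := ∑ j, ((D' j).liftKaehlerDifferential).smulRight (g' j)
  have hΦ : ∀ i, Φ (D A B (f i)) = M.det • cl i := by
    intro i
    simp only [Φ, LinearMap.sum_apply, LinearMap.smulRight_apply, Derivation.liftKaehlerDifferential_comp_D, g',
      Finset.smul_sum, smul_smul]
    rw [Finset.sum_comm]
    simp only [← Finset.sum_smul]
    have h1 : ∀ k, ∑ j, D' j (f i) * M.adjugate j k = (M.det • (1 : Matrix (Fin m) (Fin m) B)) i k := fun k => by
      rw [← Matrix.mul_adjugate, Matrix.mul_apply]; rfl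
    simp [h1, Matrix.one_apply, Finset.sum_ite_eq]
  let N : Submodule B J.Cotangent := Submodule.span B (Set.range cl)
  have hsub : Subsingleton (κ ⊗[B] (J.Cotangent ⧸ N)) := by
    refine ⟨fun a c => ?_⟩
    suffices ∀ z : κ ⊗[B] (J.Cotangent ⧸ N), z = 0 by rw [this a, this c]
    intro z
    obtain ⟨z, rfl⟩ := LinearMap.lTensor_surjective κ N.mkQ_surjective z
    change N.mkQ.baseChange κ z = 0
    have hz : z ∈ Submodule.span κ b := by rw [hbspan, hspan]; trivial
    induction hz using Submodule.span_induction with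
    | mem w hw =>
      have hw' := hidx (e ⟨w, hw⟩)
      rw [Equiv.symm_apply_apply] at hw'
      change (1 : κ) ⊗ₜ[B] g (idx (e ⟨w, hw⟩)) = w at hw'
      rw [← hw', LinearMap.baseChange_tmul, ← hy]
      rw [show N.mkQ (J.toCotangent (y (e ⟨w, hw⟩))) = 0 from (Submodule.Quotient.mk_eq_zero N).2
        (Submodule.subset_span ⟨_, rfl⟩), tmul_zero]
    | zero => exact map_zero _
    | add a c _ _ ha hc => rw [map_add, ha, hc, add_zero]
    | smul r a _ ha => rw [map_smul, ha, smul_zero]
  obtain ⟨t, ht, htN⟩ := exists_notMem_smul_eq_zero q κ hK _ hsub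
  intro hle
  refine Ideal.IsPrime.mul_notMem (inferInstance : q.IsPrime) ht hdet (hle ⟨t • Φ, fun x hx => ?_⟩)
  let L : J →ₗ[B] J.Cotangent :=
    { toFun := fun x => Φ (D A B (x : B)) - M.det • J.toCotangent x
      map_add' := fun a c => by simp only [Submodule.coe_add, map_add, smul_add]; abel
      map_smul' := fun a c => by
        simp only [SetLike.val_smul, smul_eq_mul, Derivation.leibniz, map_add, map_smul,
          RingHom.id_apply, smul_cotangent_eq_zero c.2, add_zero, smul_sub, smul_comm a M.det] }
  have hLsq : (J • ⊤ : Submodule B J) ≤ LinearMap.ker L := Submodule.smul_le.2 fun a ha z _ => by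
    rw [LinearMap.mem_ker, map_smul, smul_cotangent_eq_zero ha]
  let Lb : J.Cotangent →ₗ[B] J.Cotangent := Submodule.liftQ _ L hLsq
  have hN : N ≤ LinearMap.ker Lb := Submodule.span_le.2 (by
    rintro _ ⟨i, rfl⟩
    show Φ (D A B (f i)) - M.det • cl i = 0
    rw [hΦ, sub_self])
  have h5 : t • J.toCotangent ⟨x, hx⟩ ∈ N := by
    rw [← Submodule.Quotient.mk_eq_zero, Submodule.Quotient.mk_smul]
    exact htN _
  have h6 := hN h5
  rw [LinearMap.mem_ker, map_smul] at h6
  change t • (Φ (D A B x) - M.det • J.toCotangent ⟨x, hx⟩) = 0 at h6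
  rw [LinearMap.smul_apply, mul_smul, ← sub_eq_zero, ← smul_sub]
  exact h6

end Groth.Agent.JacobianLib
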